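import Cfsg.Agent.Helper28.Fi23P1.Data
set_option autoImplicit false
set_option maxRecDepth 1000000
namespace Cfsg.Agent.Helper28.Fi23P1
open Cfsg.Agent.Helper28
theorem fin_piece24 : allLtFrom (finRow tabs ptabs 121610) 13320 555 = true := by decide +kernel
theorem fin_piece25 : allLtFrom (finRow tabs ptabs 121610) 13875 205 = true := by decide +kernel
end Cfsg.Agent.Helper28.Fi23P1
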