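import Cfsg.Agent.Helper28.Fi23P1.Data
set_option autoImplicit false
set_option maxRecDepth 1000000
namespace Cfsg.Agent.Helper28.Fi23P1
open Cfsg.Agent.Helper28
theorem perm_piece_0_0 : permPieceF tabs.word letSel 8 1 0 14080 = true := by decide +kernel
theorem perm_piece_1_0 : permPieceF tabs.word letSel 9 1 0 14080 = true := by decide +kernel
theorem perm_piece_2_0 : permPieceF tabs.word letSel 10 1 0 14080 = true := by decide +kernel
theorem perm_piece_3_0 : permPieceF tabs.word letSel 11 1 0 14080 = true := by decide +kernel
theorem perm_piece_4_0 : permPieceF tabs.word letSel 12 1 0 14080 = true := by decide +kernel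
theorem perm_piece_5_0 : permPieceF tabs.word letSel 13 1 0 14080 = true := by decide +kernel
theorem perm_piece_6_0 : permPieceF tabs.word letSel 14 1 0 14080 = true := by decide +kernel
theorem perm_piece_7_0 : permPieceF tabs.word letSel 15 1 0 14080 = true := by decide +kernel
theorem perm_piece_8_0 : permPieceF tabs.word letSel 16 1 0 14080 = true := by decide +kernel
theorem perm_piece_9_0 : permPieceF tabs.word letSel 17 1 0 14080 = true := by decide +kernel
theorem perm_piece_10_0 : permPieceF tabs.word letSel 18 1 0 14080 = true := by decide +kernel
theorem perm_piece_11_0 : permPieceF tabs.word letSel 19 1 0 14080 = true := by decide +kernel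
theorem perm_piece_12_0 : permPieceF tabs.word letSel 20 1 0 14080 = true := by decide +kernel
end Cfsg.Agent.Helper28.Fi23P1
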