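import Cfsg.Agent.Helper28.Fi23P1.Data
set_option autoImplicit false
set_option maxRecDepth 1000000
namespace Cfsg.Agent.Helper28.Fi23P1
open Cfsg.Agent.Helper28
theorem perm_piece_13_0 : permPieceF tabs.word letSel 21 1 0 14080 = true := by decide +kernel
theorem perm_piece_14_0 : permPieceF tabs.word letSel 22 1 0 14080 = true := by decide +kernel
theorem perm_piece_15_0 : permPieceF tabs.word letSel 23 1 0 14080 = true := by decide +kernel
theorem perm_piece_16_0 : permPieceF tabs.word letSel 24 1 0 14080 = true := by decide +kernel
theorem perm_piece_17_0 : permPieceF tabs.word letSel 25 1 0 14080 = true := by decide +kernel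
theorem perm_piece_18_0 : permPieceF tabs.word letSel 26 1 0 14080 = true := by decide +kernel
theorem perm_piece_19_0 : permPieceF tabs.word letSel 27 1 0 14080 = true := by decide +kernel
theorem perm_piece_20_0 : permPieceF tabs.word letSel 28 1 0 14080 = true := by decide +kernel
theorem perm_piece_21_0 : permPieceF tabs.word letSel 29 1 0 14080 = true := by decide +kernel
theorem perm_piece_22_0 : permPieceF tabs.word letSel 30 1 0 14080 = true := by decide +kernel
theorem perm_piece_23_0 : permPieceF tabs.word letSel 31 1 0 14080 = true := by decide +kernel
theorem perm_piece_24_0 : permPieceF tabs.word letSel 32 1 0 14080 = true := by decide +kernel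
theorem perm_piece_25_0 : permPieceF tabs.word letSel 33 1 0 14080 = true := by decide +kernel
end Cfsg.Agent.Helper28.Fi23P1
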