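import Cfsg.Agent.Helper28.Fi23P1.Data
set_option autoImplicit false
set_option maxRecDepth 1000000
namespace Cfsg.Agent.Helper28.Fi23P1
open Cfsg.Agent.Helper28
theorem perm_piece_26_0 : permPieceF tabs.word letSel 34 1 0 14080 = true := by decide +kernel
theorem perm_piece_27_0 : permPieceF tabs.word letSel 35 1 0 14080 = true := by decide +kernel
theorem perm_piece_28_0 : permPieceF tabs.word letSel 36 1 0 14080 = true := by decide +kernel
theorem perm_piece_29_0 : permPieceF tabs.word letSel 37 1 0 14080 = true := by decide +kernel
theorem perm_piece_30_0 : permPieceF tabs.word letSel 38 1 0 14080 = true := by decide +kernel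
theorem perm_piece_31_0 : permPieceF tabs.word letSel 39 1 0 14080 = true := by decide +kernel
theorem perm_piece_32_0 : permPieceF tabs.word letSel 40 1 0 14080 = true := by decide +kernel
theorem perm_piece_33_0 : permPieceF tabs.word letSel 41 1 0 14080 = true := by decide +kernel
theorem perm_piece_34_0 : permPieceF tabs.word letSel 42 1 0 14080 = true := by decide +kernel
theorem perm_piece_35_0 : permPieceF tabs.word letSel 43 1 0 14080 = true := by decide +kernel
theorem perm_piece_36_0 : permPieceF tabs.word letSel 44 1 0 14080 = true := by decide +kernel
theorem perm_piece_37_0 : permPieceF tabs.word letSel 45 1 0 14080 = true := by decide +kernel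
end Cfsg.Agent.Helper28.Fi23P1
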