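import Cfsg.Agent.Helper28.Fi23P1.Data
set_option autoImplicit false
set_option maxRecDepth 1000000
namespace Cfsg.Agent.Helper28.Fi23P1
open Cfsg.Agent.Helper28
theorem perm_piece_51_0 : permPieceF tabs.word letSel 59 1 0 14080 = true := by decide +kernel
theorem perm_piece_52_0 : permPieceF tabs.word letSel 60 1 0 14080 = true := by decide +kernel
theorem perm_piece_53_0 : permPieceF tabs.word letSel 61 1 0 14080 = true := by decide +kernel
theorem perm_piece_54_0 : permPieceF tabs.word letSel 62 1 0 14080 = true := by decide +kernel
theorem perm_piece_55_0 : permPieceF tabs.word letSel 63 1 0 14080 = true := by decide +kernel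
theorem perm_piece_56_0 : permPieceF tabs.word letSel 64 1 0 14080 = true := by decide +kernel
theorem perm_piece_57_0 : permPieceF tabs.word letSel 65 1 0 14080 = true := by decide +kernel
theorem perm_piece_58_0 : permPieceF tabs.word letSel 66 1 0 14080 = true := by decide +kernel
theorem perm_piece_59_0 : permPieceF tabs.word letSel 67 1 0 14080 = true := by decide +kernel
theorem perm_piece_60_0 : permPieceF tabs.word letSel 68 2 0 14080 = true := by decide +kernel
theorem perm_piece_61_0 : permPieceF tabs.word letSel 70 1 0 14080 = true := by decide +kernel
theorem perm_piece_62_0 : permPieceF tabs.word letSel 71 1 0 14080 = true := by decide +kernel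
end Cfsg.Agent.Helper28.Fi23P1
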