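import Cfsg.Agent.Helper28.Fi23P1.Data
set_option autoImplicit false
set_option maxRecDepth 1000000
namespace Cfsg.Agent.Helper28.Fi23P1
open Cfsg.Agent.Helper28
theorem perm_piece_63_0 : permPieceF tabs.word letSel 72 1 0 14080 = true := by decide +kernel
theorem perm_piece_64_0 : permPieceF tabs.word letSel 73 1 0 14080 = true := by decide +kernel
theorem perm_piece_65_0 : permPieceF tabs.word letSel 74 1 0 14080 = true := by decide +kernel
theorem perm_piece_66_0 : permPieceF tabs.word letSel 75 1 0 14080 = true := by decide +kernel
theorem perm_piece_67_0 : permPieceF tabs.word letSel 76 1 0 14080 = true := by decide +kernel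
theorem perm_piece_68_0 : permPieceF tabs.word letSel 77 2 0 14080 = true := by decide +kernel
theorem perm_piece_69_0 : permPieceF tabs.word letSel 79 1 0 14080 = true := by decide +kernel
theorem perm_piece_70_0 : permPieceF tabs.word letSel 80 1 0 14080 = true := by decide +kernel
theorem perm_piece_71_0 : permPieceF tabs.word letSel 81 1 0 14080 = true := by decide +kernel
theorem perm_piece_72_0 : permPieceF tabs.word letSel 82 1 0 14080 = true := by decide +kernel
theorem perm_piece_73_0 : permPieceF tabs.word letSel 83 1 0 14080 = true := by decide +kernel
theorem perm_piece_74_0 : permPieceF tabs.word letSel 84 1 0 14080 = true := by decide +kernel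
end Cfsg.Agent.Helper28.Fi23P1
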