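import Cfsg.Agent.Helper28.Fi23P1.Data
set_option autoImplicit false
set_option maxRecDepth 1000000
namespace Cfsg.Agent.Helper28.Fi23P1
open Cfsg.Agent.Helper28
theorem perm_piece_75_0 : permPieceF tabs.word letSel 85 1 0 14080 = true := by decide +kernel
theorem perm_piece_76_0 : permPieceF tabs.word letSel 86 1 0 14080 = true := by decide +kernel
theorem perm_piece_77_0 : permPieceF tabs.word letSel 87 1 0 14080 = true := by decide +kernel
theorem perm_piece_78_0 : permPieceF tabs.word letSel 88 1 0 14080 = true := by decide +kernel
theorem perm_piece_79_0 : permPieceF tabs.word letSel 89 1 0 987 = true := by decide +kernel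
theorem perm_piece_79_1 : permPieceF tabs.word letSel 89 1 987 987 = true := by decide +kernel
theorem perm_piece_79_2 : permPieceF tabs.word letSel 89 1 1974 987 = true := by decide +kernel
theorem perm_piece_79_3 : permPieceF tabs.word letSel 89 1 2961 987 = true := by decide +kernel
theorem perm_piece_79_4 : permPieceF tabs.word letSel 89 1 3948 987 = true := by decide +kernel
theorem perm_piece_79_5 : permPieceF tabs.word letSel 89 1 4935 987 = true := by decide +kernel
end Cfsg.Agent.Helper28.Fi23P1
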