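import Cfsg.Agent.Helper28.Fi23P1.Data
set_option autoImplicit false
set_option maxRecDepth 1000000
namespace Cfsg.Agent.Helper28.Fi23P1
open Cfsg.Agent.Helper28
theorem perm_piece_79_6 : permPieceF tabs.word letSel 89 1 5922 987 = true := by decide +kernel
theorem perm_piece_79_7 : permPieceF tabs.word letSel 89 1 6909 987 = true := by decide +kernel
theorem perm_piece_79_8 : permPieceF tabs.word letSel 89 1 7896 987 = true := by decide +kernel
theorem perm_piece_79_9 : permPieceF tabs.word letSel 89 1 8883 987 = true := by decide +kernel
theorem perm_piece_79_10 : permPieceF tabs.word letSel 89 1 9870 987 = true := by decide +kernel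
theorem perm_piece_79_11 : permPieceF tabs.word letSel 89 1 10857 987 = true := by decide +kernel
theorem perm_piece_79_12 : permPieceF tabs.word letSel 89 1 11844 987 = true := by decide +kernel
theorem perm_piece_79_13 : permPieceF tabs.word letSel 89 1 12831 987 = true := by decide +kernel
theorem perm_piece_79_14 : permPieceF tabs.word letSel 89 1 13818 262 = true := by decide +kernel
end Cfsg.Agent.Helper28.Fi23P1
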