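import Cfsg.Agent.Helper28.Fi23P1.D0
import Cfsg.Agent.Helper28.Fi23P1.D1
import Cfsg.Agent.Helper28.Fi23P1.D2
set_option autoImplicit false
set_option maxRecDepth 1000000
namespace Cfsg.Agent.Helper28.Fi23P1
open Cfsg.Agent.Helper28
noncomputable def nd3 (i : Nat) : Nat := (Bool.rec (motive := fun _ => Nat) (nl1 i) (nl2 i) (Nat.ble 2048 i))
noncomputable def nd4 (i : Nat) : Nat := (Bool.rec (motive := fun _ => Nat) (nl3 i) (nl4 i) (Nat.ble 4096 i))
noncomputable def nd5 (i : Nat) : Nat := (Bool.rec (motive := fun _ => Nat) (nl5 i) (nl6 i) (Nat.ble 6144 i))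
noncomputable def nd2 (i : Nat) : Nat := (Bool.rec (motive := fun _ => Nat) ((Bool.rec (motive := fun _ => Nat) (nl0 i) (nd3 i) (Nat.ble 1024 i))) ((Bool.rec (motive := fun _ => Nat) (nd4 i) (nd5 i) (Nat.ble 5120 i))) (Nat.ble 3072 i))
noncomputable def nd7 (i : Nat) : Nat := (Bool.rec (motive := fun _ => Nat) (nl8 i) (nl9 i) (Nat.ble 9216 i))
noncomputable def nd8 (i : Nat) : Nat := (Bool.rec (motive := fun _ => Nat) (nl10 i) (nl11 i) (Nat.ble 11264 i))
noncomputable def nd9 (i : Nat) : Nat := (Bool.rec (motive := fun _ => Nat) (nl12 i) (nl13 i) (Nat.ble 13312 i))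
noncomputable def nd6 (i : Nat) : Nat := (Bool.rec (motive := fun _ => Nat) ((Bool.rec (motive := fun _ => Nat) (nl7 i) (nd7 i) (Nat.ble 8192 i))) ((Bool.rec (motive := fun _ => Nat) (nd8 i) (nd9 i) (Nat.ble 12288 i))) (Nat.ble 10240 i))
noncomputable def nd11 (i : Nat) : Nat := (Bool.rec (motive := fun _ => Nat) (nl15 i) (nl16 i) (Nat.ble 16384 i))
noncomputable def nd12 (i : Nat) : Nat := (Bool.rec (motive := fun _ => Nat) (nl17 i) (nl18 i) (Nat.ble 18432 i))
noncomputable def nd13 (i : Nat) : Nat := (Bool.rec (motive := fun _ => Nat) (nl19 i) (nl20 i) (Nat.ble 20480 i))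
noncomputable def nd10 (i : Nat) : Nat := (Bool.rec (motive := fun _ => Nat) ((Bool.rec (motive := fun _ => Nat) (nl14 i) (nd11 i) (Nat.ble 15360 i))) ((Bool.rec (motive := fun _ => Nat) (nd12 i) (nd13 i) (Nat.ble 19456 i))) (Nat.ble 17408 i))
noncomputable def nd15 (i : Nat) : Nat := (Bool.rec (motive := fun _ => Nat) (nl21 i) (nl22 i) (Nat.ble 22528 i))
noncomputable def nd16 (i : Nat) : Nat := (Bool.rec (motive := fun _ => Nat) (nl23 i) (nl24 i) (Nat.ble 24576 i))
noncomputable def nd17 (i : Nat) : Nat := (Bool.rec (motive := fun _ => Nat) (nl25 i) (nl26 i) (Nat.ble 26624 i))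
noncomputable def nd18 (i : Nat) : Nat := (Bool.rec (motive := fun _ => Nat) (nl27 i) (nl28 i) (Nat.ble 28672 i))
noncomputable def nd14 (i : Nat) : Nat := (Bool.rec (motive := fun _ => Nat) ((Bool.rec (motive := fun _ => Nat) (nd15 i) (nd16 i) (Nat.ble 23552 i))) ((Bool.rec (motive := fun _ => Nat) (nd17 i) (nd18 i) (Nat.ble 27648 i))) (Nat.ble 25600 i))
noncomputable def nd1 (i : Nat) : Nat := (Bool.rec (motive := fun _ => Nat) ((Bool.rec (motive := fun _ => Nat) (nd2 i) (nd6 i) (Nat.ble 7168 i))) ((Bool.rec (motive := fun _ => Nat) (nd10 i) (nd14 i) (Nat.ble 21504 i))) (Nat.ble 14336 i))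
noncomputable def nd21 (i : Nat) : Nat := (Bool.rec (motive := fun _ => Nat) (nl30 i) (nl31 i) (Nat.ble 31744 i))
noncomputable def nd22 (i : Nat) : Nat := (Bool.rec (motive := fun _ => Nat) (nl32 i) (nl33 i) (Nat.ble 33792 i))
noncomputable def nd23 (i : Nat) : Nat := (Bool.rec (motive := fun _ => Nat) (nl34 i) (nl35 i) (Nat.ble 35840 i))
noncomputable def nd20 (i : Nat) : Nat := (Bool.rec (motive := fun _ => Nat) ((Bool.rec (motive := fun _ => Nat) (nl29 i) (nd21 i) (Nat.ble 30720 i))) ((Bool.rec (motive := fun _ => Nat) (nd22 i) (nd23 i) (Nat.ble 34816 i))) (Nat.ble 32768 i))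
noncomputable def nd25 (i : Nat) : Nat := (Bool.rec (motive := fun _ => Nat) (nl36 i) (nl37 i) (Nat.ble 37888 i))
noncomputable def nd26 (i : Nat) : Nat := (Bool.rec (motive := fun _ => Nat) (nl38 i) (nl39 i) (Nat.ble 39936 i))
noncomputable def nd27 (i : Nat) : Nat := (Bool.rec (motive := fun _ => Nat) (nl40 i) (nl41 i) (Nat.ble 41984 i))
noncomputable def nd28 (i : Nat) : Nat := (Bool.rec (motive := fun _ => Nat) (nl42 i) (nl43 i) (Nat.ble 44032 i))
noncomputable def nd24 (i : Nat) : Nat := (Bool.rec (motive := fun _ => Nat) ((Bool.rec (motive := fun _ => Nat) (nd25 i) (nd26 i) (Nat.ble 38912 i))) ((Bool.rec (motive := fun _ => Nat) (nd27 i) (nd28 i) (Nat.ble 43008 i))) (Nat.ble 40960 i))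
noncomputable def nd30 (i : Nat) : Nat := (Bool.rec (motive := fun _ => Nat) (nl45 i) (nl46 i) (Nat.ble 47104 i))
noncomputable def nd31 (i : Nat) : Nat := (Bool.rec (motive := fun _ => Nat) (nl47 i) (nl48 i) (Nat.ble 49152 i))
noncomputable def nd32 (i : Nat) : Nat := (Bool.rec (motive := fun _ => Nat) (nl49 i) (nl50 i) (Nat.ble 51200 i))
noncomputable def nd29 (i : Nat) : Nat := (Bool.rec (motive := fun _ => Nat) ((Bool.rec (motive := fun _ => Nat) (nl44 i) (nd30 i) (Nat.ble 46080 i))) ((Bool.rec (motive := fun _ => Nat) (nd31 i) (nd32 i) (Nat.ble 50176 i))) (Nat.ble 48128 i))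
noncomputable def nd34 (i : Nat) : Nat := (Bool.rec (motive := fun _ => Nat) (nl51 i) (nl52 i) (Nat.ble 53248 i))
noncomputable def nd35 (i : Nat) : Nat := (Bool.rec (motive := fun _ => Nat) (nl53 i) (nl54 i) (Nat.ble 55296 i))
noncomputable def nd36 (i : Nat) : Nat := (Bool.rec (motive := fun _ => Nat) (nl55 i) (nl56 i) (Nat.ble 57344 i))
noncomputable def nd37 (i : Nat) : Nat := (Bool.rec (motive := fun _ => Nat) (nl57 i) (nl58 i) (Nat.ble 59392 i))
noncomputable def nd33 (i : Nat) : Nat := (Bool.rec (motive := fun _ => Nat) ((Bool.rec (motive := fun _ => Nat) (nd34 i) (nd35 i) (Nat.ble 54272 i))) ((Bool.rec (motive := fun _ => Nat) (nd36 i) (nd37 i) (Nat.ble 58368 i))) (Nat.ble 56320 i))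
noncomputable def nd19 (i : Nat) : Nat := (Bool.rec (motive := fun _ => Nat) ((Bool.rec (motive := fun _ => Nat) (nd20 i) (nd24 i) (Nat.ble 36864 i))) ((Bool.rec (motive := fun _ => Nat) (nd29 i) (nd33 i) (Nat.ble 52224 i))) (Nat.ble 45056 i))
noncomputable def nd40 (i : Nat) : Nat := (Bool.rec (motive := fun _ => Nat) (nl60 i) (nl61 i) (Nat.ble 62464 i))
noncomputable def nd41 (i : Nat) : Nat := (Bool.rec (motive := fun _ => Nat) (nl62 i) (nl63 i) (Nat.ble 64512 i))
noncomputable def nd42 (i : Nat) : Nat := (Bool.rec (motive := fun _ => Nat) (nl64 i) (nl65 i) (Nat.ble 66560 i))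
noncomputable def nd39 (i : Nat) : Nat := (Bool.rec (motive := fun _ => Nat) ((Bool.rec (motive := fun _ => Nat) (nl59 i) (nd40 i) (Nat.ble 61440 i))) ((Bool.rec (motive := fun _ => Nat) (nd41 i) (nd42 i) (Nat.ble 65536 i))) (Nat.ble 63488 i))
noncomputable def nd44 (i : Nat) : Nat := (Bool.rec (motive := fun _ => Nat) (nl66 i) (nl67 i) (Nat.ble 68608 i))
noncomputable def nd45 (i : Nat) : Nat := (Bool.rec (motive := fun _ => Nat) (nl68 i) (nl69 i) (Nat.ble 70656 i))
noncomputable def nd46 (i : Nat) : Nat := (Bool.rec (motive := fun _ => Nat) (nl70 i) (nl71 i) (Nat.ble 72704 i))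
noncomputable def nd47 (i : Nat) : Nat := (Bool.rec (motive := fun _ => Nat) (nl72 i) (nl73 i) (Nat.ble 74752 i))
noncomputable def nd43 (i : Nat) : Nat := (Bool.rec (motive := fun _ => Nat) ((Bool.rec (motive := fun _ => Nat) (nd44 i) (nd45 i) (Nat.ble 69632 i))) ((Bool.rec (motive := fun _ => Nat) (nd46 i) (nd47 i) (Nat.ble 73728 i))) (Nat.ble 71680 i))
noncomputable def nd49 (i : Nat) : Nat := (Bool.rec (motive := fun _ => Nat) (nl75 i) (nl76 i) (Nat.ble 77824 i))
noncomputable def nd50 (i : Nat) : Nat := (Bool.rec (motive := fun _ => Nat) (nl77 i) (nl78 i) (Nat.ble 79872 i))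
noncomputable def nd51 (i : Nat) : Nat := (Bool.rec (motive := fun _ => Nat) (nl79 i) (nl80 i) (Nat.ble 81920 i))
noncomputable def nd48 (i : Nat) : Nat := (Bool.rec (motive := fun _ => Nat) ((Bool.rec (motive := fun _ => Nat) (nl74 i) (nd49 i) (Nat.ble 76800 i))) ((Bool.rec (motive := fun _ => Nat) (nd50 i) (nd51 i) (Nat.ble 80896 i))) (Nat.ble 78848 i))
noncomputable def nd53 (i : Nat) : Nat := (Bool.rec (motive := fun _ => Nat) (nl81 i) (nl82 i) (Nat.ble 83968 i))
noncomputable def nd54 (i : Nat) : Nat := (Bool.rec (motive := fun _ => Nat) (nl83 i) (nl84 i) (Nat.ble 86016 i))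
noncomputable def nd55 (i : Nat) : Nat := (Bool.rec (motive := fun _ => Nat) (nl85 i) (nl86 i) (Nat.ble 88064 i))
noncomputable def nd56 (i : Nat) : Nat := (Bool.rec (motive := fun _ => Nat) (nl87 i) (nl88 i) (Nat.ble 90112 i))
noncomputable def nd52 (i : Nat) : Nat := (Bool.rec (motive := fun _ => Nat) ((Bool.rec (motive := fun _ => Nat) (nd53 i) (nd54 i) (Nat.ble 84992 i))) ((Bool.rec (motive := fun _ => Nat) (nd55 i) (nd56 i) (Nat.ble 89088 i))) (Nat.ble 87040 i))
noncomputable def nd38 (i : Nat) : Nat := (Bool.rec (motive := fun _ => Nat) ((Bool.rec (motive := fun _ => Nat) (nd39 i) (nd43 i) (Nat.ble 67584 i))) ((Bool.rec (motive := fun _ => Nat) (nd48 i) (nd52 i) (Nat.ble 82944 i))) (Nat.ble 75776 i))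
noncomputable def nd59 (i : Nat) : Nat := (Bool.rec (motive := fun _ => Nat) (nl90 i) (nl91 i) (Nat.ble 93184 i))
noncomputable def nd60 (i : Nat) : Nat := (Bool.rec (motive := fun _ => Nat) (nl92 i) (nl93 i) (Nat.ble 95232 i))
noncomputable def nd61 (i : Nat) : Nat := (Bool.rec (motive := fun _ => Nat) (nl94 i) (nl95 i) (Nat.ble 97280 i))
noncomputable def nd58 (i : Nat) : Nat := (Bool.rec (motive := fun _ => Nat) ((Bool.rec (motive := fun _ => Nat) (nl89 i) (nd59 i) (Nat.ble 92160 i))) ((Bool.rec (motive := fun _ => Nat) (nd60 i) (nd61 i) (Nat.ble 96256 i))) (Nat.ble 94208 i))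
noncomputable def nd63 (i : Nat) : Nat := (Bool.rec (motive := fun _ => Nat) (nl96 i) (nl97 i) (Nat.ble 99328 i))
noncomputable def nd64 (i : Nat) : Nat := (Bool.rec (motive := fun _ => Nat) (nl98 i) (nl99 i) (Nat.ble 101376 i))
noncomputable def nd65 (i : Nat) : Nat := (Bool.rec (motive := fun _ => Nat) (nl100 i) (nl101 i) (Nat.ble 103424 i))
noncomputable def nd66 (i : Nat) : Nat := (Bool.rec (motive := fun _ => Nat) (nl102 i) (nl103 i) (Nat.ble 105472 i))
noncomputable def nd62 (i : Nat) : Nat := (Bool.rec (motive := fun _ => Nat) ((Bool.rec (motive := fun _ => Nat) (nd63 i) (nd64 i) (Nat.ble 100352 i))) ((Bool.rec (motive := fun _ => Nat) (nd65 i) (nd66 i) (Nat.ble 104448 i))) (Nat.ble 102400 i))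
noncomputable def nd68 (i : Nat) : Nat := (Bool.rec (motive := fun _ => Nat) (nl105 i) (nl106 i) (Nat.ble 108544 i))
noncomputable def nd69 (i : Nat) : Nat := (Bool.rec (motive := fun _ => Nat) (nl107 i) (nl108 i) (Nat.ble 110592 i))
noncomputable def nd70 (i : Nat) : Nat := (Bool.rec (motive := fun _ => Nat) (nl109 i) (nl110 i) (Nat.ble 112640 i))
noncomputable def nd67 (i : Nat) : Nat := (Bool.rec (motive := fun _ => Nat) ((Bool.rec (motive := fun _ => Nat) (nl104 i) (nd68 i) (Nat.ble 107520 i))) ((Bool.rec (motive := fun _ => Nat) (nd69 i) (nd70 i) (Nat.ble 111616 i))) (Nat.ble 109568 i))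
noncomputable def nd72 (i : Nat) : Nat := (Bool.rec (motive := fun _ => Nat) (nl111 i) (nl112 i) (Nat.ble 114688 i))
noncomputable def nd73 (i : Nat) : Nat := (Bool.rec (motive := fun _ => Nat) (nl113 i) (nl114 i) (Nat.ble 116736 i))
noncomputable def nd74 (i : Nat) : Nat := (Bool.rec (motive := fun _ => Nat) (nl115 i) (nl116 i) (Nat.ble 118784 i))
noncomputable def nd75 (i : Nat) : Nat := (Bool.rec (motive := fun _ => Nat) (nl117 i) (nl118 i) (Nat.ble 120832 i))
noncomputable def nd71 (i : Nat) : Nat := (Bool.rec (motive := fun _ => Nat) ((Bool.rec (motive := fun _ => Nat) (nd72 i) (nd73 i) (Nat.ble 115712 i))) ((Bool.rec (motive := fun _ => Nat) (nd74 i) (nd75 i) (Nat.ble 119808 i))) (Nat.ble 117760 i))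
noncomputable def nd57 (i : Nat) : Nat := (Bool.rec (motive := fun _ => Nat) ((Bool.rec (motive := fun _ => Nat) (nd58 i) (nd62 i) (Nat.ble 98304 i))) ((Bool.rec (motive := fun _ => Nat) (nd67 i) (nd71 i) (Nat.ble 113664 i))) (Nat.ble 106496 i))
noncomputable def nd0 (i : Nat) : Nat := (Bool.rec (motive := fun _ => Nat) ((Bool.rec (motive := fun _ => Nat) (nd1 i) (nd19 i) (Nat.ble 29696 i))) ((Bool.rec (motive := fun _ => Nat) (nd38 i) (nd57 i) (Nat.ble 91136 i))) (Nat.ble 60416 i))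
noncomputable def nd77 (i : Nat) : Nat := (Bool.rec (motive := fun _ => Nat) ((Bool.rec (motive := fun _ => Nat) (nl119 i) (nl120 i) (Nat.ble 1024 i))) ((Bool.rec (motive := fun _ => Nat) (nl121 i) (nl122 i) (Nat.ble 3072 i))) (Nat.ble 2048 i))
noncomputable def nd78 (i : Nat) : Nat := (Bool.rec (motive := fun _ => Nat) ((Bool.rec (motive := fun _ => Nat) (nl123 i) (nl124 i) (Nat.ble 5120 i))) ((Bool.rec (motive := fun _ => Nat) (nl125 i) (nl126 i) (Nat.ble 7168 i))) (Nat.ble 6144 i))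
noncomputable def nd79 (i : Nat) : Nat := (Bool.rec (motive := fun _ => Nat) ((Bool.rec (motive := fun _ => Nat) (nl127 i) (nl128 i) (Nat.ble 9216 i))) ((Bool.rec (motive := fun _ => Nat) (nl129 i) (nl130 i) (Nat.ble 11264 i))) (Nat.ble 10240 i))
noncomputable def nd80 (i : Nat) : Nat := (Bool.rec (motive := fun _ => Nat) ((Bool.rec (motive := fun _ => Nat) (nl131 i) (nl132 i) (Nat.ble 13312 i))) ((Bool.rec (motive := fun _ => Nat) (nl133 i) (nl134 i) (Nat.ble 15360 i))) (Nat.ble 14336 i))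
noncomputable def nd76 (i : Nat) : Nat := (Bool.rec (motive := fun _ => Nat) ((Bool.rec (motive := fun _ => Nat) (nd77 i) (nd78 i) (Nat.ble 4096 i))) ((Bool.rec (motive := fun _ => Nat) (nd79 i) (nd80 i) (Nat.ble 12288 i))) (Nat.ble 8192 i))
noncomputable def nd84 (i : Nat) : Nat := (Bool.rec (motive := fun _ => Nat) (nl135 i) ((Bool.rec (motive := fun _ => Nat) (nl136 i) (nl137 i) (Nat.ble 2048 i))) (Nat.ble 1024 i))
noncomputable def nd85 (i : Nat) : Nat := (Bool.rec (motive := fun _ => Nat) ((Bool.rec (motive := fun _ => Nat) (nl138 i) (nl139 i) (Nat.ble 4096 i))) ((Bool.rec (motive := fun _ => Nat) (nl140 i) (nl141 i) (Nat.ble 6144 i))) (Nat.ble 5120 i))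
noncomputable def nd86 (i : Nat) : Nat := (Bool.rec (motive := fun _ => Nat) ((Bool.rec (motive := fun _ => Nat) (nl142 i) (nl143 i) (Nat.ble 8192 i))) ((Bool.rec (motive := fun _ => Nat) (nl144 i) (nl145 i) (Nat.ble 10240 i))) (Nat.ble 9216 i))
noncomputable def nd87 (i : Nat) : Nat := (Bool.rec (motive := fun _ => Nat) ((Bool.rec (motive := fun _ => Nat) (nl146 i) (nl147 i) (Nat.ble 12288 i))) ((Bool.rec (motive := fun _ => Nat) (nl148 i) (nl149 i) (Nat.ble 14336 i))) (Nat.ble 13312 i))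
noncomputable def nd83 (i : Nat) : Nat := (Bool.rec (motive := fun _ => Nat) ((Bool.rec (motive := fun _ => Nat) (nd84 i) (nd85 i) (Nat.ble 3072 i))) ((Bool.rec (motive := fun _ => Nat) (nd86 i) (nd87 i) (Nat.ble 11264 i))) (Nat.ble 7168 i))
noncomputable def nd89 (i : Nat) : Nat := (Bool.rec (motive := fun _ => Nat) ((Bool.rec (motive := fun _ => Nat) (nl150 i) (nl151 i) (Nat.ble 16384 i))) ((Bool.rec (motive := fun _ => Nat) (nl152 i) (nl153 i) (Nat.ble 18432 i))) (Nat.ble 17408 i))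
noncomputable def nd90 (i : Nat) : Nat := (Bool.rec (motive := fun _ => Nat) ((Bool.rec (motive := fun _ => Nat) (nl154 i) (nl155 i) (Nat.ble 20480 i))) ((Bool.rec (motive := fun _ => Nat) (nl156 i) (nl157 i) (Nat.ble 22528 i))) (Nat.ble 21504 i))
noncomputable def nd91 (i : Nat) : Nat := (Bool.rec (motive := fun _ => Nat) ((Bool.rec (motive := fun _ => Nat) (nl158 i) (nl159 i) (Nat.ble 24576 i))) ((Bool.rec (motive := fun _ => Nat) (nl160 i) (nl161 i) (Nat.ble 26624 i))) (Nat.ble 25600 i))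
noncomputable def nd92 (i : Nat) : Nat := (Bool.rec (motive := fun _ => Nat) ((Bool.rec (motive := fun _ => Nat) (nl162 i) (nl163 i) (Nat.ble 28672 i))) ((Bool.rec (motive := fun _ => Nat) (nl164 i) (nl165 i) (Nat.ble 30720 i))) (Nat.ble 29696 i))
noncomputable def nd88 (i : Nat) : Nat := (Bool.rec (motive := fun _ => Nat) ((Bool.rec (motive := fun _ => Nat) (nd89 i) (nd90 i) (Nat.ble 19456 i))) ((Bool.rec (motive := fun _ => Nat) (nd91 i) (nd92 i) (Nat.ble 27648 i))) (Nat.ble 23552 i))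
noncomputable def nd94 (i : Nat) : Nat := (Bool.rec (motive := fun _ => Nat) (nl166 i) ((Bool.rec (motive := fun _ => Nat) (nl167 i) (nl168 i) (Nat.ble 33792 i))) (Nat.ble 32768 i))
noncomputable def nd95 (i : Nat) : Nat := (Bool.rec (motive := fun _ => Nat) ((Bool.rec (motive := fun _ => Nat) (nl169 i) (nl170 i) (Nat.ble 35840 i))) ((Bool.rec (motive := fun _ => Nat) (nl171 i) (nl172 i) (Nat.ble 37888 i))) (Nat.ble 36864 i))
noncomputable def nd96 (i : Nat) : Nat := (Bool.rec (motive := fun _ => Nat) ((Bool.rec (motive := fun _ => Nat) (nl173 i) (nl174 i) (Nat.ble 39936 i))) ((Bool.rec (motive := fun _ => Nat) (nl175 i) (nl176 i) (Nat.ble 41984 i))) (Nat.ble 40960 i))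
noncomputable def nd97 (i : Nat) : Nat := (Bool.rec (motive := fun _ => Nat) ((Bool.rec (motive := fun _ => Nat) (nl177 i) (nl178 i) (Nat.ble 44032 i))) ((Bool.rec (motive := fun _ => Nat) (nl179 i) (nl180 i) (Nat.ble 46080 i))) (Nat.ble 45056 i))
noncomputable def nd93 (i : Nat) : Nat := (Bool.rec (motive := fun _ => Nat) ((Bool.rec (motive := fun _ => Nat) (nd94 i) (nd95 i) (Nat.ble 34816 i))) ((Bool.rec (motive := fun _ => Nat) (nd96 i) (nd97 i) (Nat.ble 43008 i))) (Nat.ble 38912 i))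
noncomputable def nd99 (i : Nat) : Nat := (Bool.rec (motive := fun _ => Nat) ((Bool.rec (motive := fun _ => Nat) (nl181 i) (nl182 i) (Nat.ble 48128 i))) ((Bool.rec (motive := fun _ => Nat) (nl183 i) (nl184 i) (Nat.ble 50176 i))) (Nat.ble 49152 i))
noncomputable def nd100 (i : Nat) : Nat := (Bool.rec (motive := fun _ => Nat) ((Bool.rec (motive := fun _ => Nat) (nl185 i) (nl186 i) (Nat.ble 52224 i))) ((Bool.rec (motive := fun _ => Nat) (nl187 i) (nl188 i) (Nat.ble 54272 i))) (Nat.ble 53248 i))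
noncomputable def nd101 (i : Nat) : Nat := (Bool.rec (motive := fun _ => Nat) ((Bool.rec (motive := fun _ => Nat) (nl189 i) (nl190 i) (Nat.ble 56320 i))) ((Bool.rec (motive := fun _ => Nat) (nl191 i) (nl192 i) (Nat.ble 58368 i))) (Nat.ble 57344 i))
noncomputable def nd102 (i : Nat) : Nat := (Bool.rec (motive := fun _ => Nat) ((Bool.rec (motive := fun _ => Nat) (nl193 i) (nl194 i) (Nat.ble 60416 i))) ((Bool.rec (motive := fun _ => Nat) (nl195 i) (nl196 i) (Nat.ble 62464 i))) (Nat.ble 61440 i))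
noncomputable def nd98 (i : Nat) : Nat := (Bool.rec (motive := fun _ => Nat) ((Bool.rec (motive := fun _ => Nat) (nd99 i) (nd100 i) (Nat.ble 51200 i))) ((Bool.rec (motive := fun _ => Nat) (nd101 i) (nd102 i) (Nat.ble 59392 i))) (Nat.ble 55296 i))
noncomputable def nd82 (i : Nat) : Nat := (Bool.rec (motive := fun _ => Nat) ((Bool.rec (motive := fun _ => Nat) (nd83 i) (nd88 i) (Nat.ble 15360 i))) ((Bool.rec (motive := fun _ => Nat) (nd93 i) (nd98 i) (Nat.ble 47104 i))) (Nat.ble 31744 i))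
noncomputable def nd105 (i : Nat) : Nat := (Bool.rec (motive := fun _ => Nat) (nl197 i) ((Bool.rec (motive := fun _ => Nat) (nl198 i) (nl199 i) (Nat.ble 65536 i))) (Nat.ble 64512 i))
noncomputable def nd106 (i : Nat) : Nat := (Bool.rec (motive := fun _ => Nat) ((Bool.rec (motive := fun _ => Nat) (nl200 i) (nl201 i) (Nat.ble 67584 i))) ((Bool.rec (motive := fun _ => Nat) (nl202 i) (nl203 i) (Nat.ble 69632 i))) (Nat.ble 68608 i))
noncomputable def nd107 (i : Nat) : Nat := (Bool.rec (motive := fun _ => Nat) ((Bool.rec (motive := fun _ => Nat) (nl204 i) (nl205 i) (Nat.ble 71680 i))) ((Bool.rec (motive := fun _ => Nat) (nl206 i) (nl207 i) (Nat.ble 73728 i))) (Nat.ble 72704 i))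
noncomputable def nd108 (i : Nat) : Nat := (Bool.rec (motive := fun _ => Nat) ((Bool.rec (motive := fun _ => Nat) (nl208 i) (nl209 i) (Nat.ble 75776 i))) ((Bool.rec (motive := fun _ => Nat) (nl210 i) (nl211 i) (Nat.ble 77824 i))) (Nat.ble 76800 i))
noncomputable def nd104 (i : Nat) : Nat := (Bool.rec (motive := fun _ => Nat) ((Bool.rec (motive := fun _ => Nat) (nd105 i) (nd106 i) (Nat.ble 66560 i))) ((Bool.rec (motive := fun _ => Nat) (nd107 i) (nd108 i) (Nat.ble 74752 i))) (Nat.ble 70656 i))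
noncomputable def nd110 (i : Nat) : Nat := (Bool.rec (motive := fun _ => Nat) ((Bool.rec (motive := fun _ => Nat) (nl212 i) (nl213 i) (Nat.ble 79872 i))) ((Bool.rec (motive := fun _ => Nat) (nl214 i) (nl215 i) (Nat.ble 81920 i))) (Nat.ble 80896 i))
noncomputable def nd111 (i : Nat) : Nat := (Bool.rec (motive := fun _ => Nat) ((Bool.rec (motive := fun _ => Nat) (nl216 i) (nl217 i) (Nat.ble 83968 i))) ((Bool.rec (motive := fun _ => Nat) (nl218 i) (nl219 i) (Nat.ble 86016 i))) (Nat.ble 84992 i))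
noncomputable def nd112 (i : Nat) : Nat := (Bool.rec (motive := fun _ => Nat) ((Bool.rec (motive := fun _ => Nat) (nl220 i) (nl221 i) (Nat.ble 88064 i))) ((Bool.rec (motive := fun _ => Nat) (nl222 i) (nl223 i) (Nat.ble 90112 i))) (Nat.ble 89088 i))
noncomputable def nd113 (i : Nat) : Nat := (Bool.rec (motive := fun _ => Nat) ((Bool.rec (motive := fun _ => Nat) (nl224 i) (nl225 i) (Nat.ble 92160 i))) ((Bool.rec (motive := fun _ => Nat) (nl226 i) (nl227 i) (Nat.ble 94208 i))) (Nat.ble 93184 i))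
noncomputable def nd109 (i : Nat) : Nat := (Bool.rec (motive := fun _ => Nat) ((Bool.rec (motive := fun _ => Nat) (nd110 i) (nd111 i) (Nat.ble 82944 i))) ((Bool.rec (motive := fun _ => Nat) (nd112 i) (nd113 i) (Nat.ble 91136 i))) (Nat.ble 87040 i))
noncomputable def nd115 (i : Nat) : Nat := (Bool.rec (motive := fun _ => Nat) (nl228 i) ((Bool.rec (motive := fun _ => Nat) (nl229 i) (nl230 i) (Nat.ble 97280 i))) (Nat.ble 96256 i))
noncomputable def nd116 (i : Nat) : Nat := (Bool.rec (motive := fun _ => Nat) ((Bool.rec (motive := fun _ => Nat) (nl231 i) (nl232 i) (Nat.ble 99328 i))) ((Bool.rec (motive := fun _ => Nat) (nl233 i) (nl234 i) (Nat.ble 101376 i))) (Nat.ble 100352 i))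
noncomputable def nd117 (i : Nat) : Nat := (Bool.rec (motive := fun _ => Nat) ((Bool.rec (motive := fun _ => Nat) (nl235 i) (nl236 i) (Nat.ble 103424 i))) ((Bool.rec (motive := fun _ => Nat) (nl237 i) (nl238 i) (Nat.ble 105472 i))) (Nat.ble 104448 i))
noncomputable def nd118 (i : Nat) : Nat := (Bool.rec (motive := fun _ => Nat) ((Bool.rec (motive := fun _ => Nat) (nl239 i) (nl240 i) (Nat.ble 107520 i))) ((Bool.rec (motive := fun _ => Nat) (nl241 i) (nl242 i) (Nat.ble 109568 i))) (Nat.ble 108544 i))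
noncomputable def nd114 (i : Nat) : Nat := (Bool.rec (motive := fun _ => Nat) ((Bool.rec (motive := fun _ => Nat) (nd115 i) (nd116 i) (Nat.ble 98304 i))) ((Bool.rec (motive := fun _ => Nat) (nd117 i) (nd118 i) (Nat.ble 106496 i))) (Nat.ble 102400 i))
noncomputable def nd120 (i : Nat) : Nat := (Bool.rec (motive := fun _ => Nat) ((Bool.rec (motive := fun _ => Nat) (nl243 i) (nl244 i) (Nat.ble 111616 i))) ((Bool.rec (motive := fun _ => Nat) (nl245 i) (nl246 i) (Nat.ble 113664 i))) (Nat.ble 112640 i))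
noncomputable def nd121 (i : Nat) : Nat := (Bool.rec (motive := fun _ => Nat) ((Bool.rec (motive := fun _ => Nat) (nl247 i) (nl248 i) (Nat.ble 115712 i))) ((Bool.rec (motive := fun _ => Nat) (nl249 i) (nl250 i) (Nat.ble 117760 i))) (Nat.ble 116736 i))
noncomputable def nd122 (i : Nat) : Nat := (Bool.rec (motive := fun _ => Nat) ((Bool.rec (motive := fun _ => Nat) (nl251 i) (nl252 i) (Nat.ble 119808 i))) ((Bool.rec (motive := fun _ => Nat) (nl253 i) (nl254 i) (Nat.ble 121856 i))) (Nat.ble 120832 i))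
noncomputable def nd123 (i : Nat) : Nat := (Bool.rec (motive := fun _ => Nat) ((Bool.rec (motive := fun _ => Nat) (nl255 i) (nl256 i) (Nat.ble 123904 i))) ((Bool.rec (motive := fun _ => Nat) (nl257 i) (nl258 i) (Nat.ble 125952 i))) (Nat.ble 124928 i))
noncomputable def nd119 (i : Nat) : Nat := (Bool.rec (motive := fun _ => Nat) ((Bool.rec (motive := fun _ => Nat) (nd120 i) (nd121 i) (Nat.ble 114688 i))) ((Bool.rec (motive := fun _ => Nat) (nd122 i) (nd123 i) (Nat.ble 122880 i))) (Nat.ble 118784 i))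
noncomputable def nd103 (i : Nat) : Nat := (Bool.rec (motive := fun _ => Nat) ((Bool.rec (motive := fun _ => Nat) (nd104 i) (nd109 i) (Nat.ble 78848 i))) ((Bool.rec (motive := fun _ => Nat) (nd114 i) (nd119 i) (Nat.ble 110592 i))) (Nat.ble 95232 i))
noncomputable def nd126 (i : Nat) : Nat := (Bool.rec (motive := fun _ => Nat) (nl259 i) ((Bool.rec (motive := fun _ => Nat) (nl260 i) (nl261 i) (Nat.ble 129024 i))) (Nat.ble 128000 i))
noncomputable def nd127 (i : Nat) : Nat := (Bool.rec (motive := fun _ => Nat) ((Bool.rec (motive := fun _ => Nat) (nl262 i) (nl263 i) (Nat.ble 131072 i))) ((Bool.rec (motive := fun _ => Nat) (nl264 i) (nl265 i) (Nat.ble 133120 i))) (Nat.ble 132096 i))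
noncomputable def nd128 (i : Nat) : Nat := (Bool.rec (motive := fun _ => Nat) ((Bool.rec (motive := fun _ => Nat) (nl266 i) (nl267 i) (Nat.ble 135168 i))) ((Bool.rec (motive := fun _ => Nat) (nl268 i) (nl269 i) (Nat.ble 137216 i))) (Nat.ble 136192 i))
noncomputable def nd129 (i : Nat) : Nat := (Bool.rec (motive := fun _ => Nat) ((Bool.rec (motive := fun _ => Nat) (nl270 i) (nl271 i) (Nat.ble 139264 i))) ((Bool.rec (motive := fun _ => Nat) (nl272 i) (nl273 i) (Nat.ble 141312 i))) (Nat.ble 140288 i))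
noncomputable def nd125 (i : Nat) : Nat := (Bool.rec (motive := fun _ => Nat) ((Bool.rec (motive := fun _ => Nat) (nd126 i) (nd127 i) (Nat.ble 130048 i))) ((Bool.rec (motive := fun _ => Nat) (nd128 i) (nd129 i) (Nat.ble 138240 i))) (Nat.ble 134144 i))
noncomputable def nd131 (i : Nat) : Nat := (Bool.rec (motive := fun _ => Nat) ((Bool.rec (motive := fun _ => Nat) (nl274 i) (nl275 i) (Nat.ble 143360 i))) ((Bool.rec (motive := fun _ => Nat) (nl276 i) (nl277 i) (Nat.ble 145408 i))) (Nat.ble 144384 i))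
noncomputable def nd132 (i : Nat) : Nat := (Bool.rec (motive := fun _ => Nat) ((Bool.rec (motive := fun _ => Nat) (nl278 i) (nl279 i) (Nat.ble 147456 i))) ((Bool.rec (motive := fun _ => Nat) (nl280 i) (nl281 i) (Nat.ble 149504 i))) (Nat.ble 148480 i))
noncomputable def nd133 (i : Nat) : Nat := (Bool.rec (motive := fun _ => Nat) ((Bool.rec (motive := fun _ => Nat) (nl282 i) (nl283 i) (Nat.ble 151552 i))) ((Bool.rec (motive := fun _ => Nat) (nl284 i) (nl285 i) (Nat.ble 153600 i))) (Nat.ble 152576 i))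
noncomputable def nd134 (i : Nat) : Nat := (Bool.rec (motive := fun _ => Nat) ((Bool.rec (motive := fun _ => Nat) (nl286 i) (nl287 i) (Nat.ble 155648 i))) ((Bool.rec (motive := fun _ => Nat) (nl288 i) (nl289 i) (Nat.ble 157696 i))) (Nat.ble 156672 i))
noncomputable def nd130 (i : Nat) : Nat := (Bool.rec (motive := fun _ => Nat) ((Bool.rec (motive := fun _ => Nat) (nd131 i) (nd132 i) (Nat.ble 146432 i))) ((Bool.rec (motive := fun _ => Nat) (nd133 i) (nd134 i) (Nat.ble 154624 i))) (Nat.ble 150528 i))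
noncomputable def nd136 (i : Nat) : Nat := (Bool.rec (motive := fun _ => Nat) (nl290 i) ((Bool.rec (motive := fun _ => Nat) (nl291 i) (nl292 i) (Nat.ble 160768 i))) (Nat.ble 159744 i))
noncomputable def nd137 (i : Nat) : Nat := (Bool.rec (motive := fun _ => Nat) ((Bool.rec (motive := fun _ => Nat) (nl293 i) (nl294 i) (Nat.ble 162816 i))) ((Bool.rec (motive := fun _ => Nat) (nl295 i) (nl296 i) (Nat.ble 164864 i))) (Nat.ble 163840 i))
noncomputable def nd138 (i : Nat) : Nat := (Bool.rec (motive := fun _ => Nat) ((Bool.rec (motive := fun _ => Nat) (nl297 i) (nl298 i) (Nat.ble 166912 i))) ((Bool.rec (motive := fun _ => Nat) (nl299 i) (nl300 i) (Nat.ble 168960 i))) (Nat.ble 167936 i))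
noncomputable def nd139 (i : Nat) : Nat := (Bool.rec (motive := fun _ => Nat) ((Bool.rec (motive := fun _ => Nat) (nl301 i) (nl302 i) (Nat.ble 171008 i))) ((Bool.rec (motive := fun _ => Nat) (nl303 i) (nl304 i) (Nat.ble 173056 i))) (Nat.ble 172032 i))
noncomputable def nd135 (i : Nat) : Nat := (Bool.rec (motive := fun _ => Nat) ((Bool.rec (motive := fun _ => Nat) (nd136 i) (nd137 i) (Nat.ble 161792 i))) ((Bool.rec (motive := fun _ => Nat) (nd138 i) (nd139 i) (Nat.ble 169984 i))) (Nat.ble 165888 i))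
noncomputable def nd141 (i : Nat) : Nat := (Bool.rec (motive := fun _ => Nat) ((Bool.rec (motive := fun _ => Nat) (nl305 i) (nl306 i) (Nat.ble 175104 i))) ((Bool.rec (motive := fun _ => Nat) (nl307 i) (nl308 i) (Nat.ble 177152 i))) (Nat.ble 176128 i))
noncomputable def nd142 (i : Nat) : Nat := (Bool.rec (motive := fun _ => Nat) ((Bool.rec (motive := fun _ => Nat) (nl309 i) (nl310 i) (Nat.ble 179200 i))) ((Bool.rec (motive := fun _ => Nat) (nl311 i) (nl312 i) (Nat.ble 181248 i))) (Nat.ble 180224 i))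
noncomputable def nd143 (i : Nat) : Nat := (Bool.rec (motive := fun _ => Nat) ((Bool.rec (motive := fun _ => Nat) (nl313 i) (nl314 i) (Nat.ble 183296 i))) ((Bool.rec (motive := fun _ => Nat) (nl315 i) (nl316 i) (Nat.ble 185344 i))) (Nat.ble 184320 i))
noncomputable def nd144 (i : Nat) : Nat := (Bool.rec (motive := fun _ => Nat) ((Bool.rec (motive := fun _ => Nat) (nl317 i) (nl318 i) (Nat.ble 187392 i))) ((Bool.rec (motive := fun _ => Nat) (nl319 i) (nl320 i) (Nat.ble 189440 i))) (Nat.ble 188416 i))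
noncomputable def nd140 (i : Nat) : Nat := (Bool.rec (motive := fun _ => Nat) ((Bool.rec (motive := fun _ => Nat) (nd141 i) (nd142 i) (Nat.ble 178176 i))) ((Bool.rec (motive := fun _ => Nat) (nd143 i) (nd144 i) (Nat.ble 186368 i))) (Nat.ble 182272 i))
noncomputable def nd124 (i : Nat) : Nat := (Bool.rec (motive := fun _ => Nat) ((Bool.rec (motive := fun _ => Nat) (nd125 i) (nd130 i) (Nat.ble 142336 i))) ((Bool.rec (motive := fun _ => Nat) (nd135 i) (nd140 i) (Nat.ble 174080 i))) (Nat.ble 158720 i))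
noncomputable def nd147 (i : Nat) : Nat := (Bool.rec (motive := fun _ => Nat) (nl321 i) ((Bool.rec (motive := fun _ => Nat) (nl322 i) (nl323 i) (Nat.ble 192512 i))) (Nat.ble 191488 i))
noncomputable def nd148 (i : Nat) : Nat := (Bool.rec (motive := fun _ => Nat) ((Bool.rec (motive := fun _ => Nat) (nl324 i) (nl325 i) (Nat.ble 194560 i))) ((Bool.rec (motive := fun _ => Nat) (nl326 i) (nl327 i) (Nat.ble 196608 i))) (Nat.ble 195584 i))
noncomputable def nd149 (i : Nat) : Nat := (Bool.rec (motive := fun _ => Nat) ((Bool.rec (motive := fun _ => Nat) (nl328 i) (nl329 i) (Nat.ble 198656 i))) ((Bool.rec (motive := fun _ => Nat) (nl330 i) (nl331 i) (Nat.ble 200704 i))) (Nat.ble 199680 i))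
noncomputable def nd150 (i : Nat) : Nat := (Bool.rec (motive := fun _ => Nat) ((Bool.rec (motive := fun _ => Nat) (nl332 i) (nl333 i) (Nat.ble 202752 i))) ((Bool.rec (motive := fun _ => Nat) (nl334 i) (nl335 i) (Nat.ble 204800 i))) (Nat.ble 203776 i))
noncomputable def nd146 (i : Nat) : Nat := (Bool.rec (motive := fun _ => Nat) ((Bool.rec (motive := fun _ => Nat) (nd147 i) (nd148 i) (Nat.ble 193536 i))) ((Bool.rec (motive := fun _ => Nat) (nd149 i) (nd150 i) (Nat.ble 201728 i))) (Nat.ble 197632 i))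
noncomputable def nd152 (i : Nat) : Nat := (Bool.rec (motive := fun _ => Nat) ((Bool.rec (motive := fun _ => Nat) (nl336 i) (nl337 i) (Nat.ble 206848 i))) ((Bool.rec (motive := fun _ => Nat) (nl338 i) (nl339 i) (Nat.ble 208896 i))) (Nat.ble 207872 i))
noncomputable def nd153 (i : Nat) : Nat := (Bool.rec (motive := fun _ => Nat) ((Bool.rec (motive := fun _ => Nat) (nl340 i) (nl341 i) (Nat.ble 210944 i))) ((Bool.rec (motive := fun _ => Nat) (nl342 i) (nl343 i) (Nat.ble 212992 i))) (Nat.ble 211968 i))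
noncomputable def nd154 (i : Nat) : Nat := (Bool.rec (motive := fun _ => Nat) ((Bool.rec (motive := fun _ => Nat) (nl344 i) (nl345 i) (Nat.ble 215040 i))) ((Bool.rec (motive := fun _ => Nat) (nl346 i) (nl347 i) (Nat.ble 217088 i))) (Nat.ble 216064 i))
noncomputable def nd155 (i : Nat) : Nat := (Bool.rec (motive := fun _ => Nat) ((Bool.rec (motive := fun _ => Nat) (nl348 i) (nl349 i) (Nat.ble 219136 i))) ((Bool.rec (motive := fun _ => Nat) (nl350 i) (nl351 i) (Nat.ble 221184 i))) (Nat.ble 220160 i))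
noncomputable def nd151 (i : Nat) : Nat := (Bool.rec (motive := fun _ => Nat) ((Bool.rec (motive := fun _ => Nat) (nd152 i) (nd153 i) (Nat.ble 209920 i))) ((Bool.rec (motive := fun _ => Nat) (nd154 i) (nd155 i) (Nat.ble 218112 i))) (Nat.ble 214016 i))
noncomputable def nd157 (i : Nat) : Nat := (Bool.rec (motive := fun _ => Nat) (nl352 i) ((Bool.rec (motive := fun _ => Nat) (nl353 i) (nl354 i) (Nat.ble 224256 i))) (Nat.ble 223232 i))
noncomputable def nd158 (i : Nat) : Nat := (Bool.rec (motive := fun _ => Nat) ((Bool.rec (motive := fun _ => Nat) (nl355 i) (nl356 i) (Nat.ble 226304 i))) ((Bool.rec (motive := fun _ => Nat) (nl357 i) (nl358 i) (Nat.ble 228352 i))) (Nat.ble 227328 i))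
noncomputable def nd159 (i : Nat) : Nat := (Bool.rec (motive := fun _ => Nat) ((Bool.rec (motive := fun _ => Nat) (nl359 i) (nl360 i) (Nat.ble 230400 i))) ((Bool.rec (motive := fun _ => Nat) (nl361 i) (nl362 i) (Nat.ble 232448 i))) (Nat.ble 231424 i))
noncomputable def nd160 (i : Nat) : Nat := (Bool.rec (motive := fun _ => Nat) ((Bool.rec (motive := fun _ => Nat) (nl363 i) (nl364 i) (Nat.ble 234496 i))) ((Bool.rec (motive := fun _ => Nat) (nl365 i) (nl366 i) (Nat.ble 236544 i))) (Nat.ble 235520 i))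
noncomputable def nd156 (i : Nat) : Nat := (Bool.rec (motive := fun _ => Nat) ((Bool.rec (motive := fun _ => Nat) (nd157 i) (nd158 i) (Nat.ble 225280 i))) ((Bool.rec (motive := fun _ => Nat) (nd159 i) (nd160 i) (Nat.ble 233472 i))) (Nat.ble 229376 i))
noncomputable def nd162 (i : Nat) : Nat := (Bool.rec (motive := fun _ => Nat) ((Bool.rec (motive := fun _ => Nat) (nl367 i) (nl368 i) (Nat.ble 238592 i))) ((Bool.rec (motive := fun _ => Nat) (nl369 i) (nl370 i) (Nat.ble 240640 i))) (Nat.ble 239616 i))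
noncomputable def nd163 (i : Nat) : Nat := (Bool.rec (motive := fun _ => Nat) ((Bool.rec (motive := fun _ => Nat) (nl371 i) (nl372 i) (Nat.ble 242688 i))) ((Bool.rec (motive := fun _ => Nat) (nl373 i) (nl374 i) (Nat.ble 244736 i))) (Nat.ble 243712 i))
noncomputable def nd164 (i : Nat) : Nat := (Bool.rec (motive := fun _ => Nat) ((Bool.rec (motive := fun _ => Nat) (nl375 i) (nl376 i) (Nat.ble 246784 i))) ((Bool.rec (motive := fun _ => Nat) (nl377 i) (nl378 i) (Nat.ble 248832 i))) (Nat.ble 247808 i))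
noncomputable def nd165 (i : Nat) : Nat := (Bool.rec (motive := fun _ => Nat) ((Bool.rec (motive := fun _ => Nat) (nl379 i) (nl380 i) (Nat.ble 250880 i))) ((Bool.rec (motive := fun _ => Nat) (nl381 i) (nl382 i) (Nat.ble 252928 i))) (Nat.ble 251904 i))
noncomputable def nd161 (i : Nat) : Nat := (Bool.rec (motive := fun _ => Nat) ((Bool.rec (motive := fun _ => Nat) (nd162 i) (nd163 i) (Nat.ble 241664 i))) ((Bool.rec (motive := fun _ => Nat) (nd164 i) (nd165 i) (Nat.ble 249856 i))) (Nat.ble 245760 i))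
noncomputable def nd145 (i : Nat) : Nat := (Bool.rec (motive := fun _ => Nat) ((Bool.rec (motive := fun _ => Nat) (nd146 i) (nd151 i) (Nat.ble 205824 i))) ((Bool.rec (motive := fun _ => Nat) (nd156 i) (nd161 i) (Nat.ble 237568 i))) (Nat.ble 222208 i))
noncomputable def nd81 (i : Nat) : Nat := (Bool.rec (motive := fun _ => Nat) ((Bool.rec (motive := fun _ => Nat) (nd82 i) (nd103 i) (Nat.ble 63488 i))) ((Bool.rec (motive := fun _ => Nat) (nd124 i) (nd145 i) (Nat.ble 190464 i))) (Nat.ble 126976 i))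
noncomputable def nd167 (i : Nat) : Nat := (Bool.rec (motive := fun _ => Nat) (nl383 i) ((Bool.rec (motive := fun _ => Nat) (nl384 i) (nl385 i) (Nat.ble 2048 i))) (Nat.ble 1024 i))
noncomputable def nd168 (i : Nat) : Nat := (Bool.rec (motive := fun _ => Nat) ((Bool.rec (motive := fun _ => Nat) (nl386 i) (nl387 i) (Nat.ble 4096 i))) ((Bool.rec (motive := fun _ => Nat) (nl388 i) (nl389 i) (Nat.ble 6144 i))) (Nat.ble 5120 i))
noncomputable def nd169 (i : Nat) : Nat := (Bool.rec (motive := fun _ => Nat) (nl390 i) ((Bool.rec (motive := fun _ => Nat) (nl391 i) (nl392 i) (Nat.ble 9216 i))) (Nat.ble 8192 i))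
noncomputable def nd170 (i : Nat) : Nat := (Bool.rec (motive := fun _ => Nat) ((Bool.rec (motive := fun _ => Nat) (nl393 i) (nl394 i) (Nat.ble 11264 i))) ((Bool.rec (motive := fun _ => Nat) (nl395 i) (nl396 i) (Nat.ble 13312 i))) (Nat.ble 12288 i))
noncomputable def nd166 (i : Nat) : Nat := (Bool.rec (motive := fun _ => Nat) ((Bool.rec (motive := fun _ => Nat) (nd167 i) (nd168 i) (Nat.ble 3072 i))) ((Bool.rec (motive := fun _ => Nat) (nd169 i) (nd170 i) (Nat.ble 10240 i))) (Nat.ble 7168 i))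
noncomputable def nd172 (i : Nat) : Nat := (Bool.rec (motive := fun _ => Nat) (nl397 i) ((Bool.rec (motive := fun _ => Nat) (nl398 i) (nl399 i) (Nat.ble 2048 i))) (Nat.ble 1024 i))
noncomputable def nd173 (i : Nat) : Nat := (Bool.rec (motive := fun _ => Nat) ((Bool.rec (motive := fun _ => Nat) (nl400 i) (nl401 i) (Nat.ble 4096 i))) ((Bool.rec (motive := fun _ => Nat) (nl402 i) (nl403 i) (Nat.ble 6144 i))) (Nat.ble 5120 i))
noncomputable def nd174 (i : Nat) : Nat := (Bool.rec (motive := fun _ => Nat) (nl404 i) ((Bool.rec (motive := fun _ => Nat) (nl405 i) (nl406 i) (Nat.ble 9216 i))) (Nat.ble 8192 i))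
noncomputable def nd175 (i : Nat) : Nat := (Bool.rec (motive := fun _ => Nat) ((Bool.rec (motive := fun _ => Nat) (nl407 i) (nl408 i) (Nat.ble 11264 i))) ((Bool.rec (motive := fun _ => Nat) (nl409 i) (nl410 i) (Nat.ble 13312 i))) (Nat.ble 12288 i))
noncomputable def nd171 (i : Nat) : Nat := (Bool.rec (motive := fun _ => Nat) ((Bool.rec (motive := fun _ => Nat) (nd172 i) (nd173 i) (Nat.ble 3072 i))) ((Bool.rec (motive := fun _ => Nat) (nd174 i) (nd175 i) (Nat.ble 10240 i))) (Nat.ble 7168 i))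
noncomputable def nd177 (i : Nat) : Nat := (Bool.rec (motive := fun _ => Nat) (nl411 i) ((Bool.rec (motive := fun _ => Nat) (nl412 i) (nl413 i) (Nat.ble 2048 i))) (Nat.ble 1024 i))
noncomputable def nd178 (i : Nat) : Nat := (Bool.rec (motive := fun _ => Nat) ((Bool.rec (motive := fun _ => Nat) (nl414 i) (nl415 i) (Nat.ble 4096 i))) ((Bool.rec (motive := fun _ => Nat) (nl416 i) (nl417 i) (Nat.ble 6144 i))) (Nat.ble 5120 i))
noncomputable def nd179 (i : Nat) : Nat := (Bool.rec (motive := fun _ => Nat) (nl418 i) ((Bool.rec (motive := fun _ => Nat) (nl419 i) (nl420 i) (Nat.ble 9216 i))) (Nat.ble 8192 i))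
noncomputable def nd180 (i : Nat) : Nat := (Bool.rec (motive := fun _ => Nat) ((Bool.rec (motive := fun _ => Nat) (nl421 i) (nl422 i) (Nat.ble 11264 i))) ((Bool.rec (motive := fun _ => Nat) (nl423 i) (nl424 i) (Nat.ble 13312 i))) (Nat.ble 12288 i))
noncomputable def nd176 (i : Nat) : Nat := (Bool.rec (motive := fun _ => Nat) ((Bool.rec (motive := fun _ => Nat) (nd177 i) (nd178 i) (Nat.ble 3072 i))) ((Bool.rec (motive := fun _ => Nat) (nd179 i) (nd180 i) (Nat.ble 10240 i))) (Nat.ble 7168 i))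
noncomputable def nd182 (i : Nat) : Nat := (Bool.rec (motive := fun _ => Nat) (nl425 i) ((Bool.rec (motive := fun _ => Nat) (nl426 i) (nl427 i) (Nat.ble 2048 i))) (Nat.ble 1024 i))
noncomputable def nd183 (i : Nat) : Nat := (Bool.rec (motive := fun _ => Nat) ((Bool.rec (motive := fun _ => Nat) (nl428 i) (nl429 i) (Nat.ble 4096 i))) ((Bool.rec (motive := fun _ => Nat) (nl430 i) (nl431 i) (Nat.ble 6144 i))) (Nat.ble 5120 i))
noncomputable def nd184 (i : Nat) : Nat := (Bool.rec (motive := fun _ => Nat) (nl432 i) ((Bool.rec (motive := fun _ => Nat) (nl433 i) (nl434 i) (Nat.ble 9216 i))) (Nat.ble 8192 i))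
noncomputable def nd185 (i : Nat) : Nat := (Bool.rec (motive := fun _ => Nat) ((Bool.rec (motive := fun _ => Nat) (nl435 i) (nl436 i) (Nat.ble 11264 i))) ((Bool.rec (motive := fun _ => Nat) (nl437 i) (nl438 i) (Nat.ble 13312 i))) (Nat.ble 12288 i))
noncomputable def nd181 (i : Nat) : Nat := (Bool.rec (motive := fun _ => Nat) ((Bool.rec (motive := fun _ => Nat) (nd182 i) (nd183 i) (Nat.ble 3072 i))) ((Bool.rec (motive := fun _ => Nat) (nd184 i) (nd185 i) (Nat.ble 10240 i))) (Nat.ble 7168 i))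
noncomputable def nd187 (i : Nat) : Nat := (Bool.rec (motive := fun _ => Nat) (nl439 i) ((Bool.rec (motive := fun _ => Nat) (nl440 i) (nl441 i) (Nat.ble 2048 i))) (Nat.ble 1024 i))
noncomputable def nd188 (i : Nat) : Nat := (Bool.rec (motive := fun _ => Nat) ((Bool.rec (motive := fun _ => Nat) (nl442 i) (nl443 i) (Nat.ble 4096 i))) ((Bool.rec (motive := fun _ => Nat) (nl444 i) (nl445 i) (Nat.ble 6144 i))) (Nat.ble 5120 i))
noncomputable def nd189 (i : Nat) : Nat := (Bool.rec (motive := fun _ => Nat) (nl446 i) ((Bool.rec (motive := fun _ => Nat) (nl447 i) (nl448 i) (Nat.ble 9216 i))) (Nat.ble 8192 i))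
noncomputable def nd190 (i : Nat) : Nat := (Bool.rec (motive := fun _ => Nat) ((Bool.rec (motive := fun _ => Nat) (nl449 i) (nl450 i) (Nat.ble 11264 i))) ((Bool.rec (motive := fun _ => Nat) (nl451 i) (nl452 i) (Nat.ble 13312 i))) (Nat.ble 12288 i))
noncomputable def nd186 (i : Nat) : Nat := (Bool.rec (motive := fun _ => Nat) ((Bool.rec (motive := fun _ => Nat) (nd187 i) (nd188 i) (Nat.ble 3072 i))) ((Bool.rec (motive := fun _ => Nat) (nd189 i) (nd190 i) (Nat.ble 10240 i))) (Nat.ble 7168 i))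
noncomputable def nd192 (i : Nat) : Nat := (Bool.rec (motive := fun _ => Nat) (nl453 i) ((Bool.rec (motive := fun _ => Nat) (nl454 i) (nl455 i) (Nat.ble 2048 i))) (Nat.ble 1024 i))
noncomputable def nd193 (i : Nat) : Nat := (Bool.rec (motive := fun _ => Nat) ((Bool.rec (motive := fun _ => Nat) (nl456 i) (nl457 i) (Nat.ble 4096 i))) ((Bool.rec (motive := fun _ => Nat) (nl458 i) (nl459 i) (Nat.ble 6144 i))) (Nat.ble 5120 i))
noncomputable def nd194 (i : Nat) : Nat := (Bool.rec (motive := fun _ => Nat) (nl460 i) ((Bool.rec (motive := fun _ => Nat) (nl461 i) (nl462 i) (Nat.ble 9216 i))) (Nat.ble 8192 i))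
noncomputable def nd195 (i : Nat) : Nat := (Bool.rec (motive := fun _ => Nat) ((Bool.rec (motive := fun _ => Nat) (nl463 i) (nl464 i) (Nat.ble 11264 i))) ((Bool.rec (motive := fun _ => Nat) (nl465 i) (nl466 i) (Nat.ble 13312 i))) (Nat.ble 12288 i))
noncomputable def nd191 (i : Nat) : Nat := (Bool.rec (motive := fun _ => Nat) ((Bool.rec (motive := fun _ => Nat) (nd192 i) (nd193 i) (Nat.ble 3072 i))) ((Bool.rec (motive := fun _ => Nat) (nd194 i) (nd195 i) (Nat.ble 10240 i))) (Nat.ble 7168 i))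
noncomputable def nd197 (i : Nat) : Nat := (Bool.rec (motive := fun _ => Nat) (nl467 i) ((Bool.rec (motive := fun _ => Nat) (nl468 i) (nl469 i) (Nat.ble 2048 i))) (Nat.ble 1024 i))
noncomputable def nd198 (i : Nat) : Nat := (Bool.rec (motive := fun _ => Nat) ((Bool.rec (motive := fun _ => Nat) (nl470 i) (nl471 i) (Nat.ble 4096 i))) ((Bool.rec (motive := fun _ => Nat) (nl472 i) (nl473 i) (Nat.ble 6144 i))) (Nat.ble 5120 i))
noncomputable def nd199 (i : Nat) : Nat := (Bool.rec (motive := fun _ => Nat) (nl474 i) ((Bool.rec (motive := fun _ => Nat) (nl475 i) (nl476 i) (Nat.ble 9216 i))) (Nat.ble 8192 i))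
noncomputable def nd200 (i : Nat) : Nat := (Bool.rec (motive := fun _ => Nat) ((Bool.rec (motive := fun _ => Nat) (nl477 i) (nl478 i) (Nat.ble 11264 i))) ((Bool.rec (motive := fun _ => Nat) (nl479 i) (nl480 i) (Nat.ble 13312 i))) (Nat.ble 12288 i))
noncomputable def nd196 (i : Nat) : Nat := (Bool.rec (motive := fun _ => Nat) ((Bool.rec (motive := fun _ => Nat) (nd197 i) (nd198 i) (Nat.ble 3072 i))) ((Bool.rec (motive := fun _ => Nat) (nd199 i) (nd200 i) (Nat.ble 10240 i))) (Nat.ble 7168 i))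
noncomputable def nd202 (i : Nat) : Nat := (Bool.rec (motive := fun _ => Nat) (nl481 i) ((Bool.rec (motive := fun _ => Nat) (nl482 i) (nl483 i) (Nat.ble 2048 i))) (Nat.ble 1024 i))
noncomputable def nd203 (i : Nat) : Nat := (Bool.rec (motive := fun _ => Nat) ((Bool.rec (motive := fun _ => Nat) (nl484 i) (nl485 i) (Nat.ble 4096 i))) ((Bool.rec (motive := fun _ => Nat) (nl486 i) (nl487 i) (Nat.ble 6144 i))) (Nat.ble 5120 i))
noncomputable def nd204 (i : Nat) : Nat := (Bool.rec (motive := fun _ => Nat) (nl488 i) ((Bool.rec (motive := fun _ => Nat) (nl489 i) (nl490 i) (Nat.ble 9216 i))) (Nat.ble 8192 i))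
noncomputable def nd205 (i : Nat) : Nat := (Bool.rec (motive := fun _ => Nat) ((Bool.rec (motive := fun _ => Nat) (nl491 i) (nl492 i) (Nat.ble 11264 i))) ((Bool.rec (motive := fun _ => Nat) (nl493 i) (nl494 i) (Nat.ble 13312 i))) (Nat.ble 12288 i))
noncomputable def nd201 (i : Nat) : Nat := (Bool.rec (motive := fun _ => Nat) ((Bool.rec (motive := fun _ => Nat) (nd202 i) (nd203 i) (Nat.ble 3072 i))) ((Bool.rec (motive := fun _ => Nat) (nd204 i) (nd205 i) (Nat.ble 10240 i))) (Nat.ble 7168 i))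
noncomputable def nd207 (i : Nat) : Nat := (Bool.rec (motive := fun _ => Nat) (nl495 i) ((Bool.rec (motive := fun _ => Nat) (nl496 i) (nl497 i) (Nat.ble 2048 i))) (Nat.ble 1024 i))
noncomputable def nd208 (i : Nat) : Nat := (Bool.rec (motive := fun _ => Nat) ((Bool.rec (motive := fun _ => Nat) (nl498 i) (nl499 i) (Nat.ble 4096 i))) ((Bool.rec (motive := fun _ => Nat) (nl500 i) (nl501 i) (Nat.ble 6144 i))) (Nat.ble 5120 i))
noncomputable def nd209 (i : Nat) : Nat := (Bool.rec (motive := fun _ => Nat) (nl502 i) ((Bool.rec (motive := fun _ => Nat) (nl503 i) (nl504 i) (Nat.ble 9216 i))) (Nat.ble 8192 i))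
noncomputable def nd210 (i : Nat) : Nat := (Bool.rec (motive := fun _ => Nat) ((Bool.rec (motive := fun _ => Nat) (nl505 i) (nl506 i) (Nat.ble 11264 i))) ((Bool.rec (motive := fun _ => Nat) (nl507 i) (nl508 i) (Nat.ble 13312 i))) (Nat.ble 12288 i))
noncomputable def nd206 (i : Nat) : Nat := (Bool.rec (motive := fun _ => Nat) ((Bool.rec (motive := fun _ => Nat) (nd207 i) (nd208 i) (Nat.ble 3072 i))) ((Bool.rec (motive := fun _ => Nat) (nd209 i) (nd210 i) (Nat.ble 10240 i))) (Nat.ble 7168 i))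
noncomputable def nd212 (i : Nat) : Nat := (Bool.rec (motive := fun _ => Nat) (nl509 i) ((Bool.rec (motive := fun _ => Nat) (nl510 i) (nl511 i) (Nat.ble 2048 i))) (Nat.ble 1024 i))
noncomputable def nd213 (i : Nat) : Nat := (Bool.rec (motive := fun _ => Nat) ((Bool.rec (motive := fun _ => Nat) (nl512 i) (nl513 i) (Nat.ble 4096 i))) ((Bool.rec (motive := fun _ => Nat) (nl514 i) (nl515 i) (Nat.ble 6144 i))) (Nat.ble 5120 i))
noncomputable def nd214 (i : Nat) : Nat := (Bool.rec (motive := fun _ => Nat) (nl516 i) ((Bool.rec (motive := fun _ => Nat) (nl517 i) (nl518 i) (Nat.ble 9216 i))) (Nat.ble 8192 i))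
noncomputable def nd215 (i : Nat) : Nat := (Bool.rec (motive := fun _ => Nat) ((Bool.rec (motive := fun _ => Nat) (nl519 i) (nl520 i) (Nat.ble 11264 i))) ((Bool.rec (motive := fun _ => Nat) (nl521 i) (nl522 i) (Nat.ble 13312 i))) (Nat.ble 12288 i))
noncomputable def nd211 (i : Nat) : Nat := (Bool.rec (motive := fun _ => Nat) ((Bool.rec (motive := fun _ => Nat) (nd212 i) (nd213 i) (Nat.ble 3072 i))) ((Bool.rec (motive := fun _ => Nat) (nd214 i) (nd215 i) (Nat.ble 10240 i))) (Nat.ble 7168 i))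
noncomputable def nd217 (i : Nat) : Nat := (Bool.rec (motive := fun _ => Nat) (nl523 i) ((Bool.rec (motive := fun _ => Nat) (nl524 i) (nl525 i) (Nat.ble 2048 i))) (Nat.ble 1024 i))
noncomputable def nd218 (i : Nat) : Nat := (Bool.rec (motive := fun _ => Nat) ((Bool.rec (motive := fun _ => Nat) (nl526 i) (nl527 i) (Nat.ble 4096 i))) ((Bool.rec (motive := fun _ => Nat) (nl528 i) (nl529 i) (Nat.ble 6144 i))) (Nat.ble 5120 i))
noncomputable def nd219 (i : Nat) : Nat := (Bool.rec (motive := fun _ => Nat) (nl530 i) ((Bool.rec (motive := fun _ => Nat) (nl531 i) (nl532 i) (Nat.ble 9216 i))) (Nat.ble 8192 i))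
noncomputable def nd220 (i : Nat) : Nat := (Bool.rec (motive := fun _ => Nat) ((Bool.rec (motive := fun _ => Nat) (nl533 i) (nl534 i) (Nat.ble 11264 i))) ((Bool.rec (motive := fun _ => Nat) (nl535 i) (nl536 i) (Nat.ble 13312 i))) (Nat.ble 12288 i))
noncomputable def nd216 (i : Nat) : Nat := (Bool.rec (motive := fun _ => Nat) ((Bool.rec (motive := fun _ => Nat) (nd217 i) (nd218 i) (Nat.ble 3072 i))) ((Bool.rec (motive := fun _ => Nat) (nd219 i) (nd220 i) (Nat.ble 10240 i))) (Nat.ble 7168 i))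
noncomputable def nd222 (i : Nat) : Nat := (Bool.rec (motive := fun _ => Nat) (nl537 i) ((Bool.rec (motive := fun _ => Nat) (nl538 i) (nl539 i) (Nat.ble 2048 i))) (Nat.ble 1024 i))
noncomputable def nd223 (i : Nat) : Nat := (Bool.rec (motive := fun _ => Nat) ((Bool.rec (motive := fun _ => Nat) (nl540 i) (nl541 i) (Nat.ble 4096 i))) ((Bool.rec (motive := fun _ => Nat) (nl542 i) (nl543 i) (Nat.ble 6144 i))) (Nat.ble 5120 i))
noncomputable def nd224 (i : Nat) : Nat := (Bool.rec (motive := fun _ => Nat) (nl544 i) ((Bool.rec (motive := fun _ => Nat) (nl545 i) (nl546 i) (Nat.ble 9216 i))) (Nat.ble 8192 i))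
noncomputable def nd225 (i : Nat) : Nat := (Bool.rec (motive := fun _ => Nat) ((Bool.rec (motive := fun _ => Nat) (nl547 i) (nl548 i) (Nat.ble 11264 i))) ((Bool.rec (motive := fun _ => Nat) (nl549 i) (nl550 i) (Nat.ble 13312 i))) (Nat.ble 12288 i))
noncomputable def nd221 (i : Nat) : Nat := (Bool.rec (motive := fun _ => Nat) ((Bool.rec (motive := fun _ => Nat) (nd222 i) (nd223 i) (Nat.ble 3072 i))) ((Bool.rec (motive := fun _ => Nat) (nd224 i) (nd225 i) (Nat.ble 10240 i))) (Nat.ble 7168 i))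
noncomputable def nd227 (i : Nat) : Nat := (Bool.rec (motive := fun _ => Nat) (nl551 i) ((Bool.rec (motive := fun _ => Nat) (nl552 i) (nl553 i) (Nat.ble 2048 i))) (Nat.ble 1024 i))
noncomputable def nd228 (i : Nat) : Nat := (Bool.rec (motive := fun _ => Nat) ((Bool.rec (motive := fun _ => Nat) (nl554 i) (nl555 i) (Nat.ble 4096 i))) ((Bool.rec (motive := fun _ => Nat) (nl556 i) (nl557 i) (Nat.ble 6144 i))) (Nat.ble 5120 i))
noncomputable def nd229 (i : Nat) : Nat := (Bool.rec (motive := fun _ => Nat) (nl558 i) ((Bool.rec (motive := fun _ => Nat) (nl559 i) (nl560 i) (Nat.ble 9216 i))) (Nat.ble 8192 i))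
noncomputable def nd230 (i : Nat) : Nat := (Bool.rec (motive := fun _ => Nat) ((Bool.rec (motive := fun _ => Nat) (nl561 i) (nl562 i) (Nat.ble 11264 i))) ((Bool.rec (motive := fun _ => Nat) (nl563 i) (nl564 i) (Nat.ble 13312 i))) (Nat.ble 12288 i))
noncomputable def nd226 (i : Nat) : Nat := (Bool.rec (motive := fun _ => Nat) ((Bool.rec (motive := fun _ => Nat) (nd227 i) (nd228 i) (Nat.ble 3072 i))) ((Bool.rec (motive := fun _ => Nat) (nd229 i) (nd230 i) (Nat.ble 10240 i))) (Nat.ble 7168 i))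
noncomputable def nd232 (i : Nat) : Nat := (Bool.rec (motive := fun _ => Nat) (nl565 i) ((Bool.rec (motive := fun _ => Nat) (nl566 i) (nl567 i) (Nat.ble 2048 i))) (Nat.ble 1024 i))
noncomputable def nd233 (i : Nat) : Nat := (Bool.rec (motive := fun _ => Nat) ((Bool.rec (motive := fun _ => Nat) (nl568 i) (nl569 i) (Nat.ble 4096 i))) ((Bool.rec (motive := fun _ => Nat) (nl570 i) (nl571 i) (Nat.ble 6144 i))) (Nat.ble 5120 i))
noncomputable def nd234 (i : Nat) : Nat := (Bool.rec (motive := fun _ => Nat) (nl572 i) ((Bool.rec (motive := fun _ => Nat) (nl573 i) (nl574 i) (Nat.ble 9216 i))) (Nat.ble 8192 i))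
noncomputable def nd235 (i : Nat) : Nat := (Bool.rec (motive := fun _ => Nat) ((Bool.rec (motive := fun _ => Nat) (nl575 i) (nl576 i) (Nat.ble 11264 i))) ((Bool.rec (motive := fun _ => Nat) (nl577 i) (nl578 i) (Nat.ble 13312 i))) (Nat.ble 12288 i))
noncomputable def nd231 (i : Nat) : Nat := (Bool.rec (motive := fun _ => Nat) ((Bool.rec (motive := fun _ => Nat) (nd232 i) (nd233 i) (Nat.ble 3072 i))) ((Bool.rec (motive := fun _ => Nat) (nd234 i) (nd235 i) (Nat.ble 10240 i))) (Nat.ble 7168 i))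
noncomputable def nd237 (i : Nat) : Nat := (Bool.rec (motive := fun _ => Nat) (nl579 i) ((Bool.rec (motive := fun _ => Nat) (nl580 i) (nl581 i) (Nat.ble 2048 i))) (Nat.ble 1024 i))
noncomputable def nd238 (i : Nat) : Nat := (Bool.rec (motive := fun _ => Nat) ((Bool.rec (motive := fun _ => Nat) (nl582 i) (nl583 i) (Nat.ble 4096 i))) ((Bool.rec (motive := fun _ => Nat) (nl584 i) (nl585 i) (Nat.ble 6144 i))) (Nat.ble 5120 i))
noncomputable def nd239 (i : Nat) : Nat := (Bool.rec (motive := fun _ => Nat) (nl586 i) ((Bool.rec (motive := fun _ => Nat) (nl587 i) (nl588 i) (Nat.ble 9216 i))) (Nat.ble 8192 i))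
noncomputable def nd240 (i : Nat) : Nat := (Bool.rec (motive := fun _ => Nat) ((Bool.rec (motive := fun _ => Nat) (nl589 i) (nl590 i) (Nat.ble 11264 i))) ((Bool.rec (motive := fun _ => Nat) (nl591 i) (nl592 i) (Nat.ble 13312 i))) (Nat.ble 12288 i))
noncomputable def nd236 (i : Nat) : Nat := (Bool.rec (motive := fun _ => Nat) ((Bool.rec (motive := fun _ => Nat) (nd237 i) (nd238 i) (Nat.ble 3072 i))) ((Bool.rec (motive := fun _ => Nat) (nd239 i) (nd240 i) (Nat.ble 10240 i))) (Nat.ble 7168 i))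
noncomputable def nd242 (i : Nat) : Nat := (Bool.rec (motive := fun _ => Nat) (nl593 i) ((Bool.rec (motive := fun _ => Nat) (nl594 i) (nl595 i) (Nat.ble 2048 i))) (Nat.ble 1024 i))
noncomputable def nd243 (i : Nat) : Nat := (Bool.rec (motive := fun _ => Nat) ((Bool.rec (motive := fun _ => Nat) (nl596 i) (nl597 i) (Nat.ble 4096 i))) ((Bool.rec (motive := fun _ => Nat) (nl598 i) (nl599 i) (Nat.ble 6144 i))) (Nat.ble 5120 i))
noncomputable def nd244 (i : Nat) : Nat := (Bool.rec (motive := fun _ => Nat) (nl600 i) ((Bool.rec (motive := fun _ => Nat) (nl601 i) (nl602 i) (Nat.ble 9216 i))) (Nat.ble 8192 i))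
noncomputable def nd245 (i : Nat) : Nat := (Bool.rec (motive := fun _ => Nat) ((Bool.rec (motive := fun _ => Nat) (nl603 i) (nl604 i) (Nat.ble 11264 i))) ((Bool.rec (motive := fun _ => Nat) (nl605 i) (nl606 i) (Nat.ble 13312 i))) (Nat.ble 12288 i))
noncomputable def nd241 (i : Nat) : Nat := (Bool.rec (motive := fun _ => Nat) ((Bool.rec (motive := fun _ => Nat) (nd242 i) (nd243 i) (Nat.ble 3072 i))) ((Bool.rec (motive := fun _ => Nat) (nd244 i) (nd245 i) (Nat.ble 10240 i))) (Nat.ble 7168 i))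
noncomputable def nd247 (i : Nat) : Nat := (Bool.rec (motive := fun _ => Nat) (nl607 i) ((Bool.rec (motive := fun _ => Nat) (nl608 i) (nl609 i) (Nat.ble 2048 i))) (Nat.ble 1024 i))
noncomputable def nd248 (i : Nat) : Nat := (Bool.rec (motive := fun _ => Nat) ((Bool.rec (motive := fun _ => Nat) (nl610 i) (nl611 i) (Nat.ble 4096 i))) ((Bool.rec (motive := fun _ => Nat) (nl612 i) (nl613 i) (Nat.ble 6144 i))) (Nat.ble 5120 i))
noncomputable def nd249 (i : Nat) : Nat := (Bool.rec (motive := fun _ => Nat) (nl614 i) ((Bool.rec (motive := fun _ => Nat) (nl615 i) (nl616 i) (Nat.ble 9216 i))) (Nat.ble 8192 i))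
noncomputable def nd250 (i : Nat) : Nat := (Bool.rec (motive := fun _ => Nat) ((Bool.rec (motive := fun _ => Nat) (nl617 i) (nl618 i) (Nat.ble 11264 i))) ((Bool.rec (motive := fun _ => Nat) (nl619 i) (nl620 i) (Nat.ble 13312 i))) (Nat.ble 12288 i))
noncomputable def nd246 (i : Nat) : Nat := (Bool.rec (motive := fun _ => Nat) ((Bool.rec (motive := fun _ => Nat) (nd247 i) (nd248 i) (Nat.ble 3072 i))) ((Bool.rec (motive := fun _ => Nat) (nd249 i) (nd250 i) (Nat.ble 10240 i))) (Nat.ble 7168 i))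
noncomputable def nd252 (i : Nat) : Nat := (Bool.rec (motive := fun _ => Nat) (nl621 i) ((Bool.rec (motive := fun _ => Nat) (nl622 i) (nl623 i) (Nat.ble 2048 i))) (Nat.ble 1024 i))
noncomputable def nd253 (i : Nat) : Nat := (Bool.rec (motive := fun _ => Nat) ((Bool.rec (motive := fun _ => Nat) (nl624 i) (nl625 i) (Nat.ble 4096 i))) ((Bool.rec (motive := fun _ => Nat) (nl626 i) (nl627 i) (Nat.ble 6144 i))) (Nat.ble 5120 i))
noncomputable def nd254 (i : Nat) : Nat := (Bool.rec (motive := fun _ => Nat) (nl628 i) ((Bool.rec (motive := fun _ => Nat) (nl629 i) (nl630 i) (Nat.ble 9216 i))) (Nat.ble 8192 i))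
noncomputable def nd255 (i : Nat) : Nat := (Bool.rec (motive := fun _ => Nat) ((Bool.rec (motive := fun _ => Nat) (nl631 i) (nl632 i) (Nat.ble 11264 i))) ((Bool.rec (motive := fun _ => Nat) (nl633 i) (nl634 i) (Nat.ble 13312 i))) (Nat.ble 12288 i))
noncomputable def nd251 (i : Nat) : Nat := (Bool.rec (motive := fun _ => Nat) ((Bool.rec (motive := fun _ => Nat) (nd252 i) (nd253 i) (Nat.ble 3072 i))) ((Bool.rec (motive := fun _ => Nat) (nd254 i) (nd255 i) (Nat.ble 10240 i))) (Nat.ble 7168 i))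
noncomputable def nd257 (i : Nat) : Nat := (Bool.rec (motive := fun _ => Nat) (nl635 i) ((Bool.rec (motive := fun _ => Nat) (nl636 i) (nl637 i) (Nat.ble 2048 i))) (Nat.ble 1024 i))
noncomputable def nd258 (i : Nat) : Nat := (Bool.rec (motive := fun _ => Nat) ((Bool.rec (motive := fun _ => Nat) (nl638 i) (nl639 i) (Nat.ble 4096 i))) ((Bool.rec (motive := fun _ => Nat) (nl640 i) (nl641 i) (Nat.ble 6144 i))) (Nat.ble 5120 i))
noncomputable def nd259 (i : Nat) : Nat := (Bool.rec (motive := fun _ => Nat) (nl642 i) ((Bool.rec (motive := fun _ => Nat) (nl643 i) (nl644 i) (Nat.ble 9216 i))) (Nat.ble 8192 i))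
noncomputable def nd260 (i : Nat) : Nat := (Bool.rec (motive := fun _ => Nat) ((Bool.rec (motive := fun _ => Nat) (nl645 i) (nl646 i) (Nat.ble 11264 i))) ((Bool.rec (motive := fun _ => Nat) (nl647 i) (nl648 i) (Nat.ble 13312 i))) (Nat.ble 12288 i))
noncomputable def nd256 (i : Nat) : Nat := (Bool.rec (motive := fun _ => Nat) ((Bool.rec (motive := fun _ => Nat) (nd257 i) (nd258 i) (Nat.ble 3072 i))) ((Bool.rec (motive := fun _ => Nat) (nd259 i) (nd260 i) (Nat.ble 10240 i))) (Nat.ble 7168 i))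
noncomputable def wd264 (i : Nat) : List Nat := (Bool.rec (motive := fun _ => List Nat) ([4]) ([6]) (Nat.ble 2 i))
noncomputable def wd265 (i : Nat) : List Nat := (Bool.rec (motive := fun _ => List Nat) ([10]) ([12]) (Nat.ble 5 i))
noncomputable def wd263 (i : Nat) : List Nat := (Bool.rec (motive := fun _ => List Nat) ((Bool.rec (motive := fun _ => List Nat) ([2]) (wd264 i) (Nat.ble 1 i))) ((Bool.rec (motive := fun _ => List Nat) ([8]) (wd265 i) (Nat.ble 4 i))) (Nat.ble 3 i))
noncomputable def wd267 (i : Nat) : List Nat := (Bool.rec (motive := fun _ => List Nat) ([16]) ([0, 0]) (Nat.ble 8 i))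
noncomputable def wd268 (i : Nat) : List Nat := (Bool.rec (motive := fun _ => List Nat) ([0, 2, 0, 2, 0, 2]) ([0, 4, 0, 4]) (Nat.ble 10 i))
noncomputable def wd269 (i : Nat) : List Nat := (Bool.rec (motive := fun _ => List Nat) ([0, 6, 0, 6]) ([0, 8, 0, 8]) (Nat.ble 12 i))
noncomputable def wd266 (i : Nat) : List Nat := (Bool.rec (motive := fun _ => List Nat) ((Bool.rec (motive := fun _ => List Nat) ([14]) (wd267 i) (Nat.ble 7 i))) ((Bool.rec (motive := fun _ => List Nat) (wd268 i) (wd269 i) (Nat.ble 11 i))) (Nat.ble 9 i))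
noncomputable def wd271 (i : Nat) : List Nat := (Bool.rec (motive := fun _ => List Nat) ([0, 12, 0, 12]) ([0, 14, 0, 14]) (Nat.ble 15 i))
noncomputable def wd272 (i : Nat) : List Nat := (Bool.rec (motive := fun _ => List Nat) ([0, 16, 0, 16]) ([2, 0, 2, 0, 2, 0]) (Nat.ble 17 i))
noncomputable def wd273 (i : Nat) : List Nat := (Bool.rec (motive := fun _ => List Nat) ([2, 2]) ([2, 4, 2, 4, 2, 4]) (Nat.ble 19 i))
noncomputable def wd270 (i : Nat) : List Nat := (Bool.rec (motive := fun _ => List Nat) ((Bool.rec (motive := fun _ => List Nat) ([0, 10, 0, 10]) (wd271 i) (Nat.ble 14 i))) ((Bool.rec (motive := fun _ => List Nat) (wd272 i) (wd273 i) (Nat.ble 18 i))) (Nat.ble 16 i))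
noncomputable def wd275 (i : Nat) : List Nat := (Bool.rec (motive := fun _ => List Nat) ([2, 8, 2, 8]) ([2, 10, 2, 10]) (Nat.ble 22 i))
noncomputable def wd276 (i : Nat) : List Nat := (Bool.rec (motive := fun _ => List Nat) ([2, 12, 2, 12]) ([2, 14, 2, 14]) (Nat.ble 24 i))
noncomputable def wd277 (i : Nat) : List Nat := (Bool.rec (motive := fun _ => List Nat) ([2, 16, 2, 16]) ([4, 0, 4, 0]) (Nat.ble 26 i))
noncomputable def wd274 (i : Nat) : List Nat := (Bool.rec (motive := fun _ => List Nat) ((Bool.rec (motive := fun _ => List Nat) ([2, 6, 2, 6]) (wd275 i) (Nat.ble 21 i))) ((Bool.rec (motive := fun _ => List Nat) (wd276 i) (wd277 i) (Nat.ble 25 i))) (Nat.ble 23 i))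
noncomputable def wd262 (i : Nat) : List Nat := (Bool.rec (motive := fun _ => List Nat) ((Bool.rec (motive := fun _ => List Nat) (wd263 i) (wd266 i) (Nat.ble 6 i))) ((Bool.rec (motive := fun _ => List Nat) (wd270 i) (wd274 i) (Nat.ble 20 i))) (Nat.ble 13 i))
noncomputable def wd280 (i : Nat) : List Nat := (Bool.rec (motive := fun _ => List Nat) ([4, 4]) ([4, 6, 4, 6, 4, 6]) (Nat.ble 29 i))
noncomputable def wd281 (i : Nat) : List Nat := (Bool.rec (motive := fun _ => List Nat) ([4, 8, 4, 8]) ([4, 10, 4, 10]) (Nat.ble 31 i))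
noncomputable def wd282 (i : Nat) : List Nat := (Bool.rec (motive := fun _ => List Nat) ([4, 12, 4, 12]) ([4, 14, 4, 14]) (Nat.ble 33 i))
noncomputable def wd279 (i : Nat) : List Nat := (Bool.rec (motive := fun _ => List Nat) ((Bool.rec (motive := fun _ => List Nat) ([4, 2, 4, 2, 4, 2]) (wd280 i) (Nat.ble 28 i))) ((Bool.rec (motive := fun _ => List Nat) (wd281 i) (wd282 i) (Nat.ble 32 i))) (Nat.ble 30 i))
noncomputable def wd284 (i : Nat) : List Nat := (Bool.rec (motive := fun _ => List Nat) ([6, 0, 6, 0]) ([6, 2, 6, 2]) (Nat.ble 36 i))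
noncomputable def wd285 (i : Nat) : List Nat := (Bool.rec (motive := fun _ => List Nat) ([6, 4, 6, 4, 6, 4]) ([6, 6]) (Nat.ble 38 i))
noncomputable def wd286 (i : Nat) : List Nat := (Bool.rec (motive := fun _ => List Nat) ([6, 8, 6, 8, 6, 8]) ([6, 10, 6, 10]) (Nat.ble 40 i))
noncomputable def wd283 (i : Nat) : List Nat := (Bool.rec (motive := fun _ => List Nat) ((Bool.rec (motive := fun _ => List Nat) ([4, 16, 4, 16]) (wd284 i) (Nat.ble 35 i))) ((Bool.rec (motive := fun _ => List Nat) (wd285 i) (wd286 i) (Nat.ble 39 i))) (Nat.ble 37 i))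
noncomputable def wd288 (i : Nat) : List Nat := (Bool.rec (motive := fun _ => List Nat) ([6, 14, 6, 14, 6, 14]) ([6, 16, 6, 16]) (Nat.ble 43 i))
noncomputable def wd289 (i : Nat) : List Nat := (Bool.rec (motive := fun _ => List Nat) ([8, 0, 8, 0]) ([8, 2, 8, 2]) (Nat.ble 45 i))
noncomputable def wd290 (i : Nat) : List Nat := (Bool.rec (motive := fun _ => List Nat) ([8, 4, 8, 4]) ([8, 6, 8, 6, 8, 6]) (Nat.ble 47 i))
noncomputable def wd287 (i : Nat) : List Nat := (Bool.rec (motive := fun _ => List Nat) ((Bool.rec (motive := fun _ => List Nat) ([6, 12, 6, 12]) (wd288 i) (Nat.ble 42 i))) ((Bool.rec (motive := fun _ => List Nat) (wd289 i) (wd290 i) (Nat.ble 46 i))) (Nat.ble 44 i))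
noncomputable def wd292 (i : Nat) : List Nat := (Bool.rec (motive := fun _ => List Nat) ([8, 10, 8, 10, 8, 10]) ([8, 12, 8, 12]) (Nat.ble 50 i))
noncomputable def wd293 (i : Nat) : List Nat := (Bool.rec (motive := fun _ => List Nat) ([8, 14, 8, 14]) ([8, 16, 8, 16]) (Nat.ble 52 i))
noncomputable def wd294 (i : Nat) : List Nat := (Bool.rec (motive := fun _ => List Nat) ([10, 0, 10, 0]) ([10, 2, 10, 2]) (Nat.ble 54 i))
noncomputable def wd291 (i : Nat) : List Nat := (Bool.rec (motive := fun _ => List Nat) ((Bool.rec (motive := fun _ => List Nat) ([8, 8]) (wd292 i) (Nat.ble 49 i))) ((Bool.rec (motive := fun _ => List Nat) (wd293 i) (wd294 i) (Nat.ble 53 i))) (Nat.ble 51 i))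
noncomputable def wd278 (i : Nat) : List Nat := (Bool.rec (motive := fun _ => List Nat) ((Bool.rec (motive := fun _ => List Nat) (wd279 i) (wd283 i) (Nat.ble 34 i))) ((Bool.rec (motive := fun _ => List Nat) (wd287 i) (wd291 i) (Nat.ble 48 i))) (Nat.ble 41 i))
noncomputable def wd297 (i : Nat) : List Nat := (Bool.rec (motive := fun _ => List Nat) ([10, 6, 10, 6]) ([10, 8, 10, 8, 10, 8]) (Nat.ble 57 i))
noncomputable def wd298 (i : Nat) : List Nat := (Bool.rec (motive := fun _ => List Nat) ([10, 12, 10, 12, 10, 12]) ([10, 14, 10, 14]) (Nat.ble 60 i))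
noncomputable def wd296 (i : Nat) : List Nat := (Bool.rec (motive := fun _ => List Nat) ((Bool.rec (motive := fun _ => List Nat) ([10, 4, 10, 4]) (wd297 i) (Nat.ble 56 i))) ((Bool.rec (motive := fun _ => List Nat) ([10, 10]) (wd298 i) (Nat.ble 59 i))) (Nat.ble 58 i))
noncomputable def wd300 (i : Nat) : List Nat := (Bool.rec (motive := fun _ => List Nat) ([12, 0, 12, 0]) ([12, 2, 12, 2]) (Nat.ble 63 i))
noncomputable def wd301 (i : Nat) : List Nat := (Bool.rec (motive := fun _ => List Nat) ([12, 4, 12, 4]) ([12, 6, 12, 6]) (Nat.ble 65 i))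
noncomputable def wd302 (i : Nat) : List Nat := (Bool.rec (motive := fun _ => List Nat) ([12, 8, 12, 8]) ([12, 10, 12, 10, 12, 10]) (Nat.ble 67 i))
noncomputable def wd299 (i : Nat) : List Nat := (Bool.rec (motive := fun _ => List Nat) ((Bool.rec (motive := fun _ => List Nat) ([10, 16, 10, 16]) (wd300 i) (Nat.ble 62 i))) ((Bool.rec (motive := fun _ => List Nat) (wd301 i) (wd302 i) (Nat.ble 66 i))) (Nat.ble 64 i))
noncomputable def wd304 (i : Nat) : List Nat := (Bool.rec (motive := fun _ => List Nat) ([12, 14, 12, 14]) ([12, 16, 12, 16]) (Nat.ble 70 i))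
noncomputable def wd305 (i : Nat) : List Nat := (Bool.rec (motive := fun _ => List Nat) ([14, 0, 14, 0]) ([14, 2, 14, 2]) (Nat.ble 72 i))
noncomputable def wd306 (i : Nat) : List Nat := (Bool.rec (motive := fun _ => List Nat) ([14, 4, 14, 4]) ([14, 6, 14, 6, 14, 6]) (Nat.ble 74 i))
noncomputable def wd303 (i : Nat) : List Nat := (Bool.rec (motive := fun _ => List Nat) ((Bool.rec (motive := fun _ => List Nat) ([12, 12]) (wd304 i) (Nat.ble 69 i))) ((Bool.rec (motive := fun _ => List Nat) (wd305 i) (wd306 i) (Nat.ble 73 i))) (Nat.ble 71 i))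
noncomputable def wd308 (i : Nat) : List Nat := (Bool.rec (motive := fun _ => List Nat) ([14, 10, 14, 10]) ([14, 12, 14, 12]) (Nat.ble 77 i))
noncomputable def wd309 (i : Nat) : List Nat := (Bool.rec (motive := fun _ => List Nat) ([14, 14]) ([14, 16, 14, 16, 14, 16]) (Nat.ble 79 i))
noncomputable def wd310 (i : Nat) : List Nat := (Bool.rec (motive := fun _ => List Nat) ([16, 0, 16, 0]) ([16, 2, 16, 2]) (Nat.ble 81 i))
noncomputable def wd307 (i : Nat) : List Nat := (Bool.rec (motive := fun _ => List Nat) ((Bool.rec (motive := fun _ => List Nat) ([14, 8, 14, 8]) (wd308 i) (Nat.ble 76 i))) ((Bool.rec (motive := fun _ => List Nat) (wd309 i) (wd310 i) (Nat.ble 80 i))) (Nat.ble 78 i))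
noncomputable def wd295 (i : Nat) : List Nat := (Bool.rec (motive := fun _ => List Nat) ((Bool.rec (motive := fun _ => List Nat) (wd296 i) (wd299 i) (Nat.ble 61 i))) ((Bool.rec (motive := fun _ => List Nat) (wd303 i) (wd307 i) (Nat.ble 75 i))) (Nat.ble 68 i))
noncomputable def wd313 (i : Nat) : List Nat := (Bool.rec (motive := fun _ => List Nat) ([16, 6, 16, 6]) ([16, 8, 16, 8]) (Nat.ble 84 i))
noncomputable def wd314 (i : Nat) : List Nat := (Bool.rec (motive := fun _ => List Nat) ([16, 10, 16, 10]) ([16, 12, 16, 12]) (Nat.ble 86 i))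
noncomputable def wd315 (i : Nat) : List Nat := (Bool.rec (motive := fun _ => List Nat) ([16, 14, 16, 14, 16, 14]) ([16, 16]) (Nat.ble 88 i))
noncomputable def wd312 (i : Nat) : List Nat := (Bool.rec (motive := fun _ => List Nat) ((Bool.rec (motive := fun _ => List Nat) ([16, 4, 16, 4]) (wd313 i) (Nat.ble 83 i))) ((Bool.rec (motive := fun _ => List Nat) (wd314 i) (wd315 i) (Nat.ble 87 i))) (Nat.ble 85 i))
noncomputable def wd317 (i : Nat) : List Nat := (Bool.rec (motive := fun _ => List Nat) ([0, 2, 4, 6, 8, 10, 14, 0, 2, 4, 6, 8, 10, 14, 0, 2, 4, 6, 8, 10, 14, 0, 2, 4, 6, 8, 10, 14, 0, 2, 4, 6, 8, 10, 14, 0, 2, 4, 6, 8, 10, 14, 0, 2, 4, 6, 8, 10, 14, 0, 2, 4, 6, 8, 10, 14, 0, 2, 4, 6, 8, 10, 14]) ([0, 1]) (Nat.ble 91 i))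
noncomputable def wd318 (i : Nat) : List Nat := (Bool.rec (motive := fun _ => List Nat) ([1, 0]) ([2, 3]) (Nat.ble 93 i))
noncomputable def wd319 (i : Nat) : List Nat := (Bool.rec (motive := fun _ => List Nat) ([3, 2]) ([4, 5]) (Nat.ble 95 i))
noncomputable def wd316 (i : Nat) : List Nat := (Bool.rec (motive := fun _ => List Nat) ((Bool.rec (motive := fun _ => List Nat) ([6, 4, 2, 6, 8, 10, 6, 14, 16, 6, 4, 2, 6, 8, 10, 6, 14, 16, 6, 4, 2, 6, 8, 10, 6, 14, 16, 6, 4, 2, 6, 8, 10, 6, 14, 16, 6, 4, 2, 6, 8, 10, 6, 14, 16, 6, 4, 2, 6, 8, 10, 6, 14, 16, 6, 4, 2, 6, 8, 10, 6, 14, 16, 6, 4, 2, 6, 8, 10, 6, 14, 16, 6, 4, 2, 6, 8, 10, 6, 14, 16, 6, 4, 2, 6, 8, 10, 6, 14, 16]) (wd317 i) (Nat.ble 90 i))) ((Bool.rec (motive := fun _ => List Nat) (wd318 i) (wd319 i) (Nat.ble 94 i))) (Nat.ble 92 i))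
noncomputable def wd321 (i : Nat) : List Nat := (Bool.rec (motive := fun _ => List Nat) ([6, 7]) ([7, 6]) (Nat.ble 98 i))
noncomputable def wd322 (i : Nat) : List Nat := (Bool.rec (motive := fun _ => List Nat) ([8, 9]) ([9, 8]) (Nat.ble 100 i))
noncomputable def wd323 (i : Nat) : List Nat := (Bool.rec (motive := fun _ => List Nat) ([10, 11]) ([11, 10]) (Nat.ble 102 i))
noncomputable def wd320 (i : Nat) : List Nat := (Bool.rec (motive := fun _ => List Nat) ((Bool.rec (motive := fun _ => List Nat) ([5, 4]) (wd321 i) (Nat.ble 97 i))) ((Bool.rec (motive := fun _ => List Nat) (wd322 i) (wd323 i) (Nat.ble 101 i))) (Nat.ble 99 i))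
noncomputable def wd325 (i : Nat) : List Nat := (Bool.rec (motive := fun _ => List Nat) ([13, 12]) ([14, 15]) (Nat.ble 105 i))
noncomputable def wd326 (i : Nat) : List Nat := (Bool.rec (motive := fun _ => List Nat) ([15, 14]) ([16, 17]) (Nat.ble 107 i))
noncomputable def wd327 (i : Nat) : List Nat := (Bool.rec (motive := fun _ => List Nat) ([17, 16]) ([]) (Nat.ble 109 i))
noncomputable def wd324 (i : Nat) : List Nat := (Bool.rec (motive := fun _ => List Nat) ((Bool.rec (motive := fun _ => List Nat) ([12, 13]) (wd325 i) (Nat.ble 104 i))) ((Bool.rec (motive := fun _ => List Nat) (wd326 i) (wd327 i) (Nat.ble 108 i))) (Nat.ble 106 i))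
noncomputable def wd311 (i : Nat) : List Nat := (Bool.rec (motive := fun _ => List Nat) ((Bool.rec (motive := fun _ => List Nat) (wd312 i) (wd316 i) (Nat.ble 89 i))) ((Bool.rec (motive := fun _ => List Nat) (wd320 i) (wd324 i) (Nat.ble 103 i))) (Nat.ble 96 i))
noncomputable def wd261 (i : Nat) : List Nat := (Bool.rec (motive := fun _ => List Nat) ((Bool.rec (motive := fun _ => List Nat) (wd262 i) (wd278 i) (Nat.ble 27 i))) ((Bool.rec (motive := fun _ => List Nat) (wd295 i) (wd311 i) (Nat.ble 82 i))) (Nat.ble 55 i))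
/-- the table of the letter `l` -/
noncomputable def letSel (l : Nat) : Nat → Nat := (Bool.rec (motive := fun _ => Nat → Nat) ((Bool.rec (motive := fun _ => Nat → Nat) ((Bool.rec (motive := fun _ => Nat → Nat) ((Bool.rec (motive := fun _ => Nat → Nat) (nd171) (nd176) (Nat.ble 1 l))) ((Bool.rec (motive := fun _ => Nat → Nat) (nd181) (nd186) (Nat.ble 3 l))) (Nat.ble 2 l))) ((Bool.rec (motive := fun _ => Nat → Nat) ((Bool.rec (motive := fun _ => Nat → Nat) (nd191) (nd196) (Nat.ble 5 l))) ((Bool.rec (motive := fun _ => Nat → Nat) (nd201) ((Bool.rec (motive := fun _ => Nat → Nat) (nd206) (nd211) (Nat.ble 8 l))) (Nat.ble 7 l))) (Nat.ble 6 l))) (Nat.ble 4 l))) ((Bool.rec (motive := fun _ => Nat → Nat) ((Bool.rec (motive := fun _ => Nat → Nat) ((Bool.rec (motive := fun _ => Nat → Nat) (nd216) (nd221) (Nat.ble 10 l))) ((Bool.rec (motive := fun _ => Nat → Nat) (nd226) (nd231) (Nat.ble 12 l))) (Nat.ble 11 l))) ((Bool.rec (motive := fun _ => Nat → Nat) ((Bool.rec (motive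 := fun _ => Nat → Nat) (nd236) (nd241) (Nat.ble 14 l))) ((Bool.rec (motive := fun _ => Nat → Nat) (nd246) ((Bool.rec (motive := fun _ => Nat → Nat) (nd251) (nd256) (Nat.ble 17 l))) (Nat.ble 16 l))) (Nat.ble 15 l))) (Nat.ble 13 l))) (Nat.ble 9 l))
noncomputable def tabs : Tabs where
  M := 15985
  nsub := 8
  nwords := 110
  word := wd261
  defn := nd76
  fact := nd0
noncomputable def ptabs : PTabs where
  n := 14080
  L := 18
  perm := fun l i => letSel l i
  fin := fun i l => nd81 (Nat.add (Nat.mul i 18) l)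
  par := nd166
theorem perm_eq : ∀ l i, ptabs.perm l i = letSel l i := fun _ _ => rfl
end Cfsg.Agent.Helper28.Fi23P1
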