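import Cfsg.Agent.Helper28.Fi23P1.Data
set_option autoImplicit false
set_option maxRecDepth 1000000
namespace Cfsg.Agent.Helper28.Fi23P1
open Cfsg.Agent.Helper28
theorem perm_piece_38_0 : permPieceF tabs.word letSel 46 1 0 14080 = true := by decide +kernel
theorem perm_piece_39_0 : permPieceF tabs.word letSel 47 1 0 14080 = true := by decide +kernel
theorem perm_piece_40_0 : permPieceF tabs.word letSel 48 1 0 14080 = true := by decide +kernel
theorem perm_piece_41_0 : permPieceF tabs.word letSel 49 1 0 14080 = true := by decide +kernel
theorem perm_piece_42_0 : permPieceF tabs.word letSel 50 1 0 14080 = true := by decide +kernel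
theorem perm_piece_43_0 : permPieceF tabs.word letSel 51 1 0 14080 = true := by decide +kernel
theorem perm_piece_44_0 : permPieceF tabs.word letSel 52 1 0 14080 = true := by decide +kernel
theorem perm_piece_45_0 : permPieceF tabs.word letSel 53 1 0 14080 = true := by decide +kernel
theorem perm_piece_46_0 : permPieceF tabs.word letSel 54 1 0 14080 = true := by decide +kernel
theorem perm_piece_47_0 : permPieceF tabs.word letSel 55 1 0 14080 = true := by decide +kernel
theorem perm_piece_48_0 : permPieceF tabs.word letSel 56 1 0 14080 = true := by decide +kernel
theorem perm_piece_49_0 : permPieceF tabs.word letSel 57 1 0 14080 = true := by decide +kernel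
theorem perm_piece_50_0 : permPieceF tabs.word letSel 58 1 0 14080 = true := by decide +kernel
end Cfsg.Agent.Helper28.Fi23P1
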